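import Cfsg.Agent.Lib.DihedralSchur.Rational

/-!
A primitive Schur partition of a dihedral group has only one nontrivial class.
-/

set_option autoImplicit false
set_option linter.unusedSectionVars false
set_option maxHeartbeats 1000000

noncomputable section

namespace Cfsg.Agent.DihedralSchur

open DihedralGroup

variable {m : ℕ} [NeZero m]

/-- The augmentation. -/
def aug : DR m →+* ℤ where
  toFun x := ∑ d, x.coeff d
  map_zero' := by simp
  map_add' x y := by simp [Finset.sum_add_distrib]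
  map_one' := by simp [MonoidAlgebra.one_def, Finsupp.single_apply]
  map_mul' x y := by
    simp only [mulD_coeff]
    rw [Finset.sum_comm, Finset.sum_mul]
    refine Finset.sum_congr rfl fun d _ => ?_
    rw [← Finset.mul_sum, ← Equiv.sum_comp (Equiv.mulLeft d)]
    simp

theorem aug_apply (x : DR m) : aug x = ∑ d, x.coeff d := rfl

theorem aug_ind (T : Set (DihedralGroup m)) [DecidablePred (· ∈ T)] :
    aug (ind T) = ((Finset.univ.filter (· ∈ T)).card : ℤ) := by
  rw [aug_apply, Finset.card_filter, Nat.cast_sum]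
  refine Finset.sum_congr rfl fun d _ => ?_
  split_ifs with h
  · simp [ind_coeff_mem h]
  · simp [ind_coeff_not_mem h]

namespace Scheme

variable (S : Scheme m)

/-- No nonempty proper union of classes is invariant under a nontrivial translation. -/
theorem univ_of_translate {T : Set (DihedralGroup m)} (hT : S.Sat T) {c : DihedralGroup m}
    (hc : c ≠ 1) (hinv : ∀ a ∈ T, a * c ∈ T) {a : DihedralGroup m} (ha : a ∈ T) : ∀ b, b ∈ T := by
  classical
  set H := {h | ∀ a ∈ T, a * h ∈ T} with hH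
  have hval : ∀ h, (ind T * ind T).coeff h = ∑ d, (ind T).coeff d * (ind T).coeff (d * h) := by
    intro h
    rw [mulD_coeff, ← Equiv.sum_comp (Equiv.inv _)]
    refine Finset.sum_congr rfl fun d _ => ?_
    simp only [Equiv.inv_apply, inv_inv]
    rw [S.cls_inv (S.cls_ind hT)]
  have hHeq : H = {h | (ind T * ind T).coeff h = aug (ind T)} := by
    ext h
    show (∀ a ∈ T, a * h ∈ T) ↔ (ind T * ind T).coeff h = aug (ind T)
    rw [hval, aug_apply, Finset.sum_eq_sum_iff_of_le]
    · refine ⟨fun H d _ => ?_, fun H d hd => ?_⟩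
      · by_cases hd : d ∈ T
        · rw [ind_coeff_mem hd, ind_coeff_mem (H d hd), mul_one]
        · rw [ind_coeff_not_mem hd, zero_mul]
      · have := H d (Finset.mem_univ _)
        by_contra hn
        rw [ind_coeff_mem hd, ind_coeff_not_mem hn] at this
        norm_num at this
    · intro d _
      by_cases hn : d * h ∈ T
      · rw [ind_coeff_mem hn, mul_one]
      · rw [ind_coeff_not_mem hn, mul_zero]; exact ind_coeff_nonneg _ _
  have hsat : S.Sat H := by
    rw [hHeq]
    exact S.sat_ne_zero (S.conv (S.cls_ind hT) (S.cls_ind hT)) fun v => v = aug (ind T)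
  rcases S.prim H hsat (fun a ha => by rwa [mul_one])
    (fun a ha b hb d hd => by rw [← mul_assoc]; exact hb _ (ha d hd)) with hP | hP
  · exact absurd (hP c hinv) hc
  · intro b
    have := hP (a⁻¹ * b) a ha
    rwa [mul_inv_cancel_left] at this

theorem class_card_unit (hm : 2 ≤ m) (u : (ZMod m)ˣ) (z : ZMod m) :
    aug (ind {d | S.rel (r (↑u * z)) d}) = aug (ind {d | S.rel (r z) d}) := by
  classical
  obtain ⟨q, hB, hq, hq2, hqu⟩ := exists_prime_unit u (4 * m)
  haveI : Fact q.Prime := ⟨hq⟩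
  set T := {d | S.rel (r z) d}
  set U := {d | S.rel (r (↑u * z)) d}
  set x : S.ring := ⟨ind T, S.cls_ind (S.sat_class _)⟩
  set y : S.ring := ⟨ind U, S.cls_ind (S.sat_class _)⟩
  have hfr : fr q (cp (x : DR m)) = cp (y : DR m) := extC fun w => by
    rw [fr_unit hqu, cp_coeff, cp_coeff]
    have hiff : r (((u⁻¹ : (ZMod m)ˣ) : ZMod m) * w) ∈ T ↔ r w ∈ U := by
      refine ⟨fun h => ?_, fun h => ?_⟩
      · have h1 := S.rel_unit u (h : S.rel (r z) (r (((u⁻¹ : (ZMod m)ˣ) : ZMod m) * w)))
        rwa [Units.mul_inv_cancel_left] at h1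
      · have h1 := S.rel_unit u⁻¹ (h : S.rel (r (↑u * z)) (r w))
        rwa [Units.inv_mul_cancel_left] at h1
    by_cases hw : r w ∈ U
    · exact (ind_coeff_mem (hiff.2 hw)).trans (ind_coeff_mem hw).symm
    · exact (ind_coeff_not_mem (mt hiff.1 hw)).trans (ind_coeff_not_mem hw).symm
  have h1 := frob_cp S x hq hq2
  rw [hfr, ← map_sub, ← AddSubgroupClass.coe_sub, ← S.natCast_dvd hm] at h1
  obtain ⟨c, hc⟩ := h1
  have h2 := congrArg (fun v : S.ring => aug (v : DR m)) hc
  simp only [AddSubgroupClass.coe_sub, map_sub, Subring.coe_mul, Subring.coe_natCast, Subring.coe_pow,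
    map_pow, map_mul, map_natCast] at h2
  have h3 : (q : ℤ) ∣ aug (ind T) - aug (ind U) := by
    have hf : (q : ℤ) ∣ aug (ind T) ^ q - aug (ind T) := by
      rw [← ZMod.intCast_zmod_eq_zero_iff_dvd]
      push_cast
      rw [ZMod.pow_card, sub_self]
    have h4 := dvd_sub (Dvd.intro _ h2.symm) hf
    rwa [sub_sub_sub_cancel_left] at h4
  have hle : ∀ V : Set (DihedralGroup m), (aug (ind V)).natAbs ≤ 2 * m := by
    intro V
    rw [aug_ind, Int.natAbs_natCast]
    refine (Finset.card_filter_le _ _).trans ?_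
    rw [Finset.card_univ, ← Nat.card_eq_fintype_card, DihedralGroup.nat_card]
  exact (eq_of_dvd_sub_small h3 (by have := hle T; have := hle U; omega)).symm

/-- One orbit of classes means one class. -/
theorem rel_of_one_orbit (hm : 2 ≤ m) {z₀ : ZMod m} (hz₀ : z₀ ≠ 0)
    (hall : ∀ z, z ≠ 0 → S.Linked z₀ z) {a b : DihedralGroup m} (ha : a ≠ 1) (hb : b ≠ 1) :
    S.rel a b := by
  classical
  set cntR : ZMod m → ℕ := fun z => (Finset.univ.filter fun w => S.rel (r z) (r w)).card with hcntR
  have hkey : ∀ z, z ≠ 0 → aug (ind {d | S.rel (r z) d}) = aug (ind {d | S.rel (r z₀) d}) ∧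
      cntR z = cntR z₀ := by
    intro z hz
    obtain ⟨u, hu⟩ := hall z hz
    have hsame : {d | S.rel (r z) d} = {d | S.rel (r (↑u * z₀)) d} :=
      Set.ext fun d => ⟨fun h => S.trans hu h, fun h => S.trans (S.symm hu) h⟩
    refine ⟨by rw [hsame, S.class_card_unit hm], ?_⟩
    refine Finset.card_bij' (fun w _ => ↑u⁻¹ * w) (fun w _ => ↑u * w) ?_ ?_
      (fun w _ => Units.mul_inv_cancel_left u w) (fun w _ => Units.inv_mul_cancel_left u w)
    · intro w hw
      have h1 := S.rel_unit u⁻¹ (S.trans hu (Finset.mem_filter.1 hw).2)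
      rw [Units.inv_mul_cancel_left] at h1
      exact Finset.mem_filter.2 ⟨Finset.mem_univ _, h1⟩
    · intro w hw
      exact Finset.mem_filter.2 ⟨Finset.mem_univ _,
        S.trans (S.symm hu) (S.rel_unit u (Finset.mem_filter.1 hw).2)⟩
  -- double count
  set kk := (Finset.univ.filter fun d => S.rel (r z₀) d).card with hkk
  set aa := cntR z₀ with haa
  have hcount : (m - 1) * kk = (2 * m - 1) * aa := by
    have h1 : ∀ z ∈ Finset.univ.erase (0 : ZMod m), ((Finset.univ.erase (1 : DihedralGroup m)).filter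
        fun d => S.rel (r z) d).card = kk := by
      intro z hz
      have hz0 := Finset.ne_of_mem_erase hz
      have h2 := (hkey z hz0).1
      rw [aug_ind, aug_ind, Nat.cast_inj] at h2
      simp only [Set.mem_setOf_eq] at h2
      rw [hkk, ← h2]
      congr 1
      ext d
      simp only [Finset.mem_filter, Finset.mem_erase, Finset.mem_univ, and_true, true_and,
        and_iff_right_iff_imp]
      intro hd e
      subst e
      exact hz0 (r.inj ((S.one (S.symm hd)).trans r_zero.symm))
    have h2 : ∀ d ∈ Finset.univ.erase (1 : DihedralGroup m), ((Finset.univ.erase (0 : ZMod m)).filter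
        fun z => S.rel (r z) d).card = aa := by
      intro d hd
      obtain ⟨w, hw0, hw⟩ := S.exists_r hm (Finset.ne_of_mem_erase hd)
      rw [← (hkey w hw0).2]
      congr 1
      ext z
      simp only [Finset.mem_filter, Finset.mem_erase, Finset.mem_univ, and_true, true_and]
      refine ⟨fun h => S.symm (S.trans h.2 hw), fun h => ⟨fun e => ?_, S.trans (S.symm h) (S.symm hw)⟩⟩
      subst e
      exact hw0 (r.inj ((S.one (S.trans (by rw [← r_zero]; exact S.refl _) (S.symm h))).trans r_zero.symm))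
    have h3 := Finset.sum_card_bipartiteAbove_eq_sum_card_bipartiteBelow
      (s := Finset.univ.erase (0 : ZMod m)) (t := Finset.univ.erase (1 : DihedralGroup m))
      (fun z d => S.rel (r z) d)
    simp only [Finset.bipartiteAbove, Finset.bipartiteBelow] at h3
    rw [Finset.sum_congr rfl h1, Finset.sum_congr rfl h2, Finset.sum_const, Finset.sum_const,
      smul_eq_mul, smul_eq_mul, Finset.card_erase_of_mem (Finset.mem_univ _),
      Finset.card_erase_of_mem (Finset.mem_univ _), Finset.card_univ, Finset.card_univ, ZMod.card,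
      ← Nat.card_eq_fintype_card, DihedralGroup.nat_card] at h3
    exact h3
  have hsub : ∀ w, S.rel (r z₀) (r w) → w ∈ Finset.univ.erase (0 : ZMod m) := fun w h =>
    Finset.mem_erase.2 ⟨fun e => hz₀ (r.inj ((S.one (S.symm (by rw [← r_zero]; rw [e] at h; exact h))).trans
      r_zero.symm)), Finset.mem_univ _⟩
  have hle : aa ≤ m - 1 := by
    refine (Finset.card_le_card fun w hw => hsub w (Finset.mem_filter.1 hw).2).trans_eq ?_
    rw [Finset.card_erase_of_mem (Finset.mem_univ _), Finset.card_univ, ZMod.card]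
  have hpos : 1 ≤ aa := Finset.card_pos.2 ⟨z₀, Finset.mem_filter.2 ⟨Finset.mem_univ _, S.refl _⟩⟩
  have hcop : (m - 1).Coprime (2 * m - 1) := by
    rw [show 2 * m - 1 = 1 + 2 * (m - 1) by omega, Nat.coprime_add_mul_right_right]
    exact Nat.coprime_one_right _
  have haeq : aa = m - 1 :=
    le_antisymm hle (Nat.le_of_dvd hpos (hcop.dvd_of_dvd_mul_left ⟨kk, hcount.symm⟩))
  have hall' : ∀ w, w ≠ 0 → S.rel (r z₀) (r w) := by
    intro w hw
    have heq := Finset.eq_of_subset_of_card_le
      (s := Finset.univ.filter fun w => S.rel (r z₀) (r w)) (t := Finset.univ.erase (0 : ZMod m))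
      (fun w hw => hsub w (Finset.mem_filter.1 hw).2)
      (by rw [Finset.card_erase_of_mem (Finset.mem_univ _), Finset.card_univ, ZMod.card]; exact haeq.ge)
    have : w ∈ Finset.univ.erase (0 : ZMod m) := Finset.mem_erase.2 ⟨hw, Finset.mem_univ _⟩
    rw [← heq] at this
    exact (Finset.mem_filter.1 this).2
  obtain ⟨za, hza, hra⟩ := S.exists_r hm ha
  obtain ⟨zb, hzb, hrb⟩ := S.exists_r hm hb
  exact S.trans hra (S.trans (S.symm (hall' za hza)) (S.trans (hall' zb hzb) (S.symm hrb)))

end Scheme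

theorem dvd_sum_periodic {p M : ℕ} (hm : m = p * M) (F : ZMod m → ℤ)
    (hF : ∀ z, F (z + (M : ZMod m)) = F z) : ∑ z, F z = p * ∑ i ∈ Finset.range M, F (i : ZMod m) := by
  have h1 : ∑ z, F z = ∑ i ∈ Finset.range m, F (i : ZMod m) :=
    Finset.sum_bij' (fun z _ => z.val) (fun i _ => (i : ZMod m))
      (fun z _ => Finset.mem_range.2 (ZMod.val_lt z)) (fun i _ => Finset.mem_univ _)
      (fun z _ => ZMod.natCast_rightInverse z)
      (fun i hi => ZMod.val_cast_of_lt (Finset.mem_range.1 hi))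
      (fun z _ => by rw [ZMod.natCast_rightInverse z])
  have h2 : ∀ j : ℕ, ∑ i ∈ Finset.range (j * M), F (i : ZMod m) =
      j * ∑ i ∈ Finset.range M, F (i : ZMod m) := by
    intro j
    induction j with
    | zero => simp
    | succ j ih =>
      have hj : ∀ (j : ℕ) (z : ZMod m), F (z + ((j * M : ℕ) : ZMod m)) = F z := by
        intro j
        induction j with
        | zero => simp
        | succ j ih =>
          intro z
          rw [add_mul, one_mul, Nat.cast_add, ← add_assoc, hF, ih]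
      have hx : ∀ i : ℕ, F ((j * M + i : ℕ) : ZMod m) = F (i : ZMod m) := fun i => by
        rw [Nat.cast_add, add_comm, hj]
      rw [add_mul, one_mul, Finset.sum_range_add, ih, Finset.sum_congr rfl fun i _ => hx i]
      push_cast
      ring
  rw [h1, ← h2 p, ← hm]

theorem negacyclic_false (Y : ZMod 8 → ℤ) (h01 : ∀ u, Y u = 0 ∨ Y u = 1)
    (hshift : ∀ u, Y u + Y (u + 4) = 1) : ∑ u, Y u * Y (u + 1) ≠ 2 := by
  intro h
  have h' : ∑ u : Fin 8, (fun v : ZMod 8 => Y v * Y (v + 1)) u = 2 := h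
  rw [Fin.sum_univ_eight] at h'
  have e4 : Y 4 = 1 - Y 0 := by have := hshift 0; simp only [zero_add] at this; omega
  have e5 : Y 5 = 1 - Y 1 := by have := hshift 1; rw [show (1 : ZMod 8) + 4 = 5 by decide] at this; omega
  have e6 : Y 6 = 1 - Y 2 := by have := hshift 2; rw [show (2 : ZMod 8) + 4 = 6 by decide] at this; omega
  have e7 : Y 7 = 1 - Y 3 := by have := hshift 3; rw [show (3 : ZMod 8) + 4 = 7 by decide] at this; omega
  change Y 0 * Y 1 + Y 1 * Y 2 + Y 2 * Y 3 + Y 3 * Y 4 + Y 4 * Y 5 + Y 5 * Y 6 + Y 6 * Y 7 +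
    Y 7 * Y 0 = 2 at h'
  rw [e4, e5, e6, e7] at h'
  rcases h01 0 with a | a <;> rcases h01 1 with b | b <;> rcases h01 2 with c | c <;>
    rcases h01 3 with d | d <;> rw [a, b, c, d] at h' <;> omega

namespace Scheme

variable (S : Scheme m)

theorem exists_prime_split (hm : 2 ≤ m) :
    ∃ p a m₀ : ℕ, p.Prime ∧ a ≠ 0 ∧ ¬ p ∣ m₀ ∧ m = p ^ a * m₀ ∧ (p ≠ 2 ∨ m₀ = 1) := by
  by_cases hodd : ∃ p, p.Prime ∧ p ≠ 2 ∧ p ∣ m
  · obtain ⟨p, hp, hp2, hpm⟩ := hodd
    obtain ⟨a, m₀, hm₀, heq⟩ := Nat.exists_eq_pow_mul_and_not_dvd (NeZero.ne m) p hp.ne_one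
    refine ⟨p, a, m₀, hp, fun ha => hm₀ ?_, hm₀, heq, Or.inl hp2⟩
    rw [heq, ha, pow_zero, one_mul] at hpm
    exact hpm
  · push Not at hodd
    have h2 : ∀ {d : ℕ}, d.Prime → d ∣ m → d = 2 := fun {d} hd hdm =>
      by_contra fun hne => hodd d hd hne hdm
    have heq := Nat.eq_prime_pow_of_unique_prime_dvd (NeZero.ne m) h2
    refine ⟨2, _, 1, Nat.prime_two, fun h0 => ?_, by norm_num, by rw [mul_one]; exact heq, Or.inr rfl⟩
    rw [h0, pow_zero] at heq
    omega

/-- A primitive Schur partition has one nontrivial class. -/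
theorem single_class (hm : 2 ≤ m) {a b : DihedralGroup m} (ha : a ≠ 1) (hb : b ≠ 1) : S.rel a b := by
  classical
  obtain ⟨p, ea, m₀, hp, hea, hcop, hmeq, hpar⟩ := exists_prime_split (m := m) hm
  have hpm : p ∣ m := by rw [hmeq]; exact (dvd_pow_self p hea).mul_right _
  set M := m / p with hMdef
  have hmM : m = p * M := (Nat.mul_div_cancel' hpm).symm
  have hMpos : 0 < M := Nat.pos_of_ne_zero fun h => NeZero.ne m (by rw [hmM, h, mul_zero])
  set k₀ : ZMod m := (M : ZMod m) with hk₀def
  have hk₀p : p • k₀ = 0 := by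
    rw [nsmul_eq_mul, hk₀def, ← Nat.cast_mul, ← hmM, ZMod.natCast_self]
  have hk₀0 : k₀ ≠ 0 := fun h => by
    rw [hk₀def, ZMod.natCast_eq_zero_iff] at h
    have h1 := Nat.le_of_dvd hMpos h
    have h2 := hp.two_le
    rw [hmM] at h1
    nlinarith
  by_cases hone : ∀ z, z ≠ 0 → S.Linked k₀ z
  · exact S.rel_of_one_orbit hm hk₀0 hone ha hb
  exfalso
  push Not at hone
  obtain ⟨z₀, hz₀0, hz₀⟩ := hone
  haveI : Fact p.Prime := ⟨hp⟩
  have hKl : ∀ k : ZMod m, p • k = 0 → k ≠ 0 → S.Linked k₀ k := fun k hk hk0 =>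
    S.linked_of_addOrderOf_eq (by rw [addOrderOf_eq_prime hk₀p hk₀0, addOrderOf_eq_prime hk hk0])
  have horb0 : ¬ S.Linked k₀ 0 := by
    rintro ⟨u, hu⟩
    have h1 := r.inj ((S.one (by rw [← r_zero]; exact S.symm hu)).trans r_zero.symm)
    exact hk₀0 (u.mul_right_eq_zero.1 h1)
  -- the difference set
  set T : Set (DihedralGroup m) := {1} ∪ S.orb k₀ with hT
  have hTsat : S.Sat T := by
    rintro c d hcd (rfl | hc)
    · exact Or.inl (S.one hcd)
    · exact Or.inr (S.sat_orb k₀ c d hcd hc)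
  set x : S.ring := ⟨ind T, S.cls_ind hTsat⟩ with hx
  have hmemT : ∀ z, r z ∈ T ↔ z = 0 ∨ S.Linked k₀ z := fun z =>
    or_congr ⟨fun h => r.inj (h.trans r_zero.symm), fun h => by rw [h, r_zero]; rfl⟩ Iff.rfl
  have hxrat : S.IsRat x := by
    intro u z
    have hiff : r ((u : ZMod m) * z) ∈ T ↔ r z ∈ T := by
      rw [hmemT, hmemT, u.mul_right_eq_zero]
      exact or_congr Iff.rfl ⟨fun h => S.linked_trans h (S.linked_symm ⟨u, S.refl _⟩),
        fun h => S.linked_trans h ⟨u, S.refl _⟩⟩
    by_cases hz : r z ∈ T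
    · exact (ind_coeff_mem (hiff.2 hz)).trans (ind_coeff_mem hz).symm
    · exact (ind_coeff_not_mem (mt hiff.1 hz)).trans (ind_coeff_not_mem hz).symm
  set X : ZMod m → ℤ := fun z => (ind T).coeff (r z) with hX
  set Y : ZMod m → ℤ := fun z => (ind T).coeff (sr z) with hY
  have h01 : ∀ d, (ind T).coeff d = 0 ∨ (ind T).coeff d = 1 := fun d => by
    by_cases hd : d ∈ T
    · exact Or.inr (ind_coeff_mem hd)
    · exact Or.inl (ind_coeff_not_mem hd)
  have hXsymm : ∀ z, X (-z) = X z := fun z => by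
    rw [hX]
    exact (congrArg _ (inv_r z).symm).trans (S.cls_inv (S.cls_ind hTsat) (r z))
  have hXper : ∀ z k, p • k = 0 → X (z + k) = X z := by
    intro z k hk
    by_cases hz : p • z = 0
    · have hmem : ∀ w : ZMod m, p • w = 0 → r w ∈ T := fun w hw => (hmemT w).2 (by
        by_cases hw0 : w = 0
        · exact Or.inl hw0
        · exact Or.inr (hKl w hw hw0))
      exact (ind_coeff_mem (hmem _ (by rw [nsmul_add, hz, hk, add_zero]))).trans
        (ind_coeff_mem (hmem z hz)).symm
    · exact (hxrat.eq_of_linked (S.linked_add hp hea hcop hmeq hpar hk hz)).symm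
  have hX0 : X 0 = 1 := ind_coeff_mem ((hmemT 0).2 (Or.inl rfl))
  have hXz₀ : X z₀ = 0 := ind_coeff_not_mem fun h => by
    rcases (hmemT z₀).1 h with h | h
    exacts [hz₀0 h, hz₀ h]
  set g : S.ring := x * x with hg
  have hgrat : S.IsRat g := S.isRat_mul hm hxrat hxrat
  set G : DihedralGroup m → ℤ := fun d => (g : DR m).coeff d with hG
  set W : ZMod m → ℤ := fun z => ∑ u, Y u * Y (u + z) with hW
  set XX : ZMod m → ℤ := fun z => ∑ u, X u * X (z - u) with hXX
  set XY : ZMod m → ℤ := fun z => ∑ u, Y u * X (z - u) with hXY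
  have hGr : ∀ z, G (r z) = XX z + W z := by
    intro z
    show ((x : DR m) * (x : DR m)).coeff (r z) = _
    rw [← cp_coeff, cp_mul, AddMonoidAlgebra.coeff_add, Finsupp.add_apply, mulC_coeff, mulC_coeff]
    simp only [cp_coeff, star'_coeff, yp_coeff, hXX, hW]
    congr 1
    rw [← Equiv.sum_comp (Equiv.neg (ZMod m))]
    refine Finset.sum_congr rfl fun u _ => ?_
    simp only [Equiv.neg_apply, neg_neg, sub_neg_eq_add, add_comm z u]
    rfl
  have hGs : ∀ z, G (sr z) = 2 * XY z := by
    intro z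
    show ((x : DR m) * (x : DR m)).coeff (sr z) = _
    rw [← yp_coeff, yp_mul, S.star'_cp x.2, mul_comm (cp (x : DR m)), ← two_mul,
      show (2 : CR m) = ((2 : ℕ) : CR m) by norm_num, ← nsmul_eq_mul,
      AddMonoidAlgebra.coeff_smul_apply, nsmul_eq_mul, mulC_coeff]
    simp only [cp_coeff, yp_coeff, hXY]
    rfl
  set lam := G (r k₀) with hlam
  -- all nontrivial elements take the same value
  have hGorb : ∀ d ∈ S.orb k₀, G d = lam := by
    rintro d ⟨u, hu⟩
    exact (g.2 _ _ hu).symm.trans (hgrat u k₀)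
  have hGconst : ∀ d, d ≠ 1 → G d = lam := by
    intro d hd
    by_contra hne
    set Q := {d | d ≠ 1 ∧ d ∉ S.orb k₀ ∧ G d ≠ lam} with hQ
    have hQsat : S.Sat Q := fun c e hce hc => ⟨fun h => hc.1 (S.one (h ▸ S.symm hce)),
      fun h => hc.2.1 (S.sat_orb k₀ e c (S.symm hce) h), fun h => hc.2.2 ((g.2 c e hce).trans h)⟩
    have hk₀1 : (r k₀ : DihedralGroup m) ≠ 1 := fun h => hk₀0 (r.inj (h.trans r_zero.symm))
    have hinv : ∀ c ∈ Q, c * r k₀ ∈ Q := by
      rintro (z | z) ⟨h1, h2, h3⟩
      · have hzp : p • z ≠ 0 := fun e => h2 (hKl z e fun e0 => h1 (by rw [e0, r_zero]))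
        have hl := S.linked_add hp hea hcop hmeq hpar hk₀p hzp
        rw [r_mul_r]
        refine ⟨fun e => hzp ?_, fun e => h2 (S.linked_trans (S.mem_orb.1 e) (S.linked_symm hl)),
          fun e => h3 ((hgrat.eq_of_linked hl).trans e)⟩
        have h4 := congrArg (p • ·) (r.inj (e.trans r_zero.symm))
        simpa [nsmul_add, hk₀p] using h4
      · have hper : G (sr (z + k₀)) = G (sr z) := by
          rw [hGs, hGs]
          congr 1
          refine Finset.sum_congr rfl fun u _ => ?_
          rw [add_sub_right_comm, hXper _ _ hk₀p]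
        rw [sr_mul_r]
        refine ⟨fun e => (by rw [← r_zero] at e; cases e), fun e => h3 (hper ▸ hGorb _ e), ?_⟩
        rw [hper]; exact h3
    exact (S.univ_of_translate hQsat hk₀1 hinv (a := d)
      ⟨hd, fun e => hne (hGorb d e), hne⟩ 1).1 rfl
  have hr1 : ∀ z : ZMod m, z ≠ 0 → (r z : DihedralGroup m) ≠ 1 := fun z hz h =>
    hz (r.inj (h.trans r_zero.symm))
  have hsr1 : ∀ z : ZMod m, (sr z : DihedralGroup m) ≠ 1 := fun z h => by rw [← r_zero] at h; cases h
  set E := G 1 - lam with hE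
  set s := ∑ z, X z with hs
  set bY := ∑ z, Y z with hbY
  have hXX0 : XX 0 = s := Finset.sum_congr rfl fun u _ => by
    rw [zero_sub, hXsymm]
    rcases h01 (r u) with h | h <;> simp only [hX, h] <;> norm_num
  have hW0 : W 0 = bY := Finset.sum_congr rfl fun u _ => by
    rw [add_zero]
    rcases h01 (sr u) with h | h <;> simp only [hY, h] <;> norm_num
  have hF0 : s + bY = E + lam := by
    rw [hE, sub_add_cancel, ← r_zero, hGr, hXX0, hW0]
  have hXXper : ∀ z k, p • k = 0 → XX (z + k) = XX z := fun z k hk =>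
    Finset.sum_congr rfl fun u _ => by rw [add_sub_right_comm, hXper _ _ hk]
  have hWk : ∀ k, p • k = 0 → k ≠ 0 → W k = bY - E := by
    intro k hk hk0
    have h1 := hGconst _ (hr1 k hk0)
    rw [hGr, ← zero_add k, hXXper 0 k hk, hXX0, zero_add] at h1
    linarith
  have hsr : 2 * (bY * s) = (m : ℤ) * lam := by
    have h1 : ∑ z, G (sr z) = ∑ _z : ZMod m, lam :=
      Finset.sum_congr rfl fun z _ => hGconst _ (hsr1 z)
    rw [Finset.sum_const, Finset.card_univ, ZMod.card, nsmul_eq_mul] at h1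
    simp only [hGs, ← Finset.mul_sum] at h1
    rw [← h1]
    congr 1
    simp only [hXY]
    rw [Finset.sum_comm, hbY, Finset.sum_mul]
    refine Finset.sum_congr rfl fun u _ => ?_
    rw [← Finset.mul_sum, hs]
    congr 1
    exact (Equiv.sum_comp (Equiv.subRight u) X).symm
  have htot : (s + bY) * (s + bY) = E + 2 * (m : ℤ) * lam := by
    have h1 : aug (g : DR m) = aug (ind T) * aug (ind T) := map_mul aug _ _
    have h2 : aug (ind T) = s + bY := by rw [aug_apply, sum_dihedral]
    have h3 : aug (g : DR m) = E + 2 * (m : ℤ) * lam := by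
      rw [aug_apply, ← Finset.add_sum_erase _ _ (Finset.mem_univ (1 : DihedralGroup m)),
        Finset.sum_congr rfl (fun d hd => hGconst d (Finset.ne_of_mem_erase hd)), Finset.sum_const,
        Finset.card_erase_of_mem (Finset.mem_univ _), Finset.card_univ, ← Nat.card_eq_fintype_card,
        DihedralGroup.nat_card, nsmul_eq_mul, Nat.cast_sub (by omega)]
      show G 1 + _ = _
      push_cast
      rw [hE]
      ring
    rw [← h2, ← h1, h3]
  have hsq : (s - bY) ^ 2 = E := by nlinarith
  -- translations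
  have hk₀_T : ¬ ∀ c ∈ T, c * r k₀ ∈ T := fun hinv => by
    have h1 := S.univ_of_translate hTsat (hr1 k₀ hk₀0) hinv (a := 1) (Or.inl rfl) (r z₀)
    exact one_ne_zero ((ind_coeff_mem h1).symm.trans hXz₀)
  have hE0 : E ≠ 0 := by
    intro hE0
    apply hk₀_T
    have h1 : ∑ u, Y u * Y (u + k₀) = ∑ u, Y u := by
      have := hWk k₀ hk₀p hk₀0
      rw [hE0, sub_zero] at this
      exact this
    rw [Finset.sum_eq_sum_iff_of_le (fun u _ => by
      rcases h01 (sr u) with h | h <;> rcases h01 (sr (u + k₀)) with h' | h' <;>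
        simp only [hY, h, h'] <;> norm_num)] at h1
    rintro (z | z) hc
    · by_contra hn
      rw [r_mul_r] at hn
      have e1 : X z = 1 := ind_coeff_mem hc
      have e2 : X (z + k₀) = 0 := ind_coeff_not_mem hn
      rw [hXper z k₀ hk₀p] at e2
      omega
    · by_contra hn
      rw [sr_mul_r] at hn
      have := h1 z (Finset.mem_univ _)
      simp only [hY, ind_coeff_mem hc, ind_coeff_not_mem hn] at this
      norm_num at this
  -- `p ^ 2` divides `E`
  have hpE : (p : ℤ) ^ 2 ∣ E := by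
    set C3 : ZMod m → ℤ := fun z => ∑ u, X u * XX (z - u) with hC3
    have hdvd : ∀ z, (p : ℤ) ^ 2 ∣ C3 z := by
      intro z
      have hin : ∀ w, (p : ℤ) ∣ XX w := fun w => by
        simp only [hXX]
        rw [dvd_sum_periodic hmM]
        · exact dvd_mul_right _ _
        · intro u
          show X (u + k₀) * X (w - (u + k₀)) = _
          rw [hXper u k₀ hk₀p, show w - (u + k₀) = w - u + -k₀ by ring,
            hXper _ (-k₀) (by rw [smul_neg, hk₀p, neg_zero])]
      simp only [hC3]
      rw [dvd_sum_periodic hmM]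
      · rw [pow_two]
        exact mul_dvd_mul_left _ (Finset.dvd_sum fun i _ => (hin _).mul_left _)
      · intro u
        show X (u + k₀) * XX (z - (u + k₀)) = _
        rw [hXper u k₀ hk₀p, show z - (u + k₀) = z - u + -k₀ by ring,
          hXXper _ (-k₀) (by rw [smul_neg, hk₀p, neg_zero])]
    have hrel : ∀ z, 2 * C3 z + bY * lam = 2 * (E * X z + lam * s) := by
      intro z
      have h1 : ∀ u, XX (z - u) + W (z - u) = lam + if u = z then E else 0 := by
        intro u
        rw [← hGr]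
        split_ifs with hu
        · rw [hu, sub_self, r_zero, hE]; ring
        · rw [hGconst _ (hr1 _ (sub_ne_zero.2 (Ne.symm hu))), add_zero]
      have h2 : ∑ u, X u * (XX (z - u) + W (z - u)) = lam * s + E * X z := by
        simp only [h1, mul_add, Finset.sum_add_distrib, mul_ite, mul_zero, Finset.sum_ite_eq',
          Finset.mem_univ, if_true, ← Finset.sum_mul]
        ring
      have h3 : ∑ u, X u * W (z - u) = ∑ v, Y v * XY (v + z) := by
        simp only [hW, hXY, Finset.mul_sum]
        rw [Finset.sum_comm]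
        refine Finset.sum_congr rfl fun v _ => ?_
        rw [← Equiv.sum_comp (Equiv.subLeft (v + z))]
        refine Finset.sum_congr rfl fun u _ => ?_
        simp only [Equiv.subLeft_apply]
        rw [show v + (z - (v + z - u)) = u by ring]
        ring
      have h4 : 2 * ∑ v, Y v * XY (v + z) = bY * lam := by
        rw [Finset.mul_sum, hbY, Finset.sum_mul]
        refine Finset.sum_congr rfl fun v _ => ?_
        rw [← hGconst _ (hsr1 (v + z)), hGs]
        ring
      simp only [mul_add, Finset.sum_add_distrib] at h2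
      rw [hC3]
      linarith
    have h0 := hrel 0
    have hz := hrel z₀
    rw [hX0] at h0
    rw [hXz₀] at hz
    rw [show E = C3 0 - C3 z₀ by linarith]
    exact dvd_sub (hdvd 0) (hdvd z₀)
  -- arithmetic
  set e := |s - bY| with he
  have he2 : e ^ 2 = E := by rw [he, sq_abs, hsq]
  have hpe : (p : ℤ) ∣ e := by
    rw [← Int.pow_dvd_pow_iff two_ne_zero, he2]; exact hpE
  have he_pos : 2 ≤ e := by
    have h0 : 0 < e := lt_of_le_of_ne (abs_nonneg _) fun h => hE0 (by rw [← he2, ← h]; norm_num)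
    have h1 := Int.le_of_dvd h0 hpe
    have h2 : (2 : ℤ) ≤ (p : ℤ) := by exact_mod_cast hp.two_le
    linarith
  have hY01 : ∀ u, Y u = 0 ∨ Y u = 1 := fun u => h01 (sr u)
  have hWnn : 0 ≤ W k₀ := Finset.sum_nonneg fun u _ => mul_nonneg (ind_coeff_nonneg _ _) (ind_coeff_nonneg _ _)
  have hW' : ∀ k, ∑ u, (1 - Y u) * (1 - Y (u + k)) = (m : ℤ) - 2 * bY + W k := by
    intro k
    have h1 : ∑ u, Y (u + k) = bY := Equiv.sum_comp (Equiv.addRight k) Y
    simp only [hW, sub_mul, mul_sub, one_mul, mul_one, Finset.sum_sub_distrib, h1, Finset.sum_const,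
      Finset.card_univ, ZMod.card, nsmul_eq_mul]
    ring
  have hW'nn : ∀ u, 0 ≤ 1 - Y u := fun u => by rcases hY01 u with h | h <;> omega
  have hbE : E ≤ bY := by have := hWk k₀ hk₀p hk₀0; linarith
  have hbE' : bY ≤ (m : ℤ) - E := by
    have h1 : 0 ≤ ∑ u, (1 - Y u) * (1 - Y (u + k₀)) :=
      Finset.sum_nonneg fun u _ => mul_nonneg (hW'nn _) (hW'nn _)
    rw [hW', hWk k₀ hk₀p hk₀0] at h1
    linarith
  have hmE : (m : ℤ) ≤ 2 * E := by
    have hid : s * ((m : ℤ) - s) + bY * ((m : ℤ) - bY) = ((m : ℤ) - 1) * E := by nlinarith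
    have habs := abs_le.1 (le_of_eq he.symm)
    have hc1 : E - e ≤ s := by linarith
    have hc2 : s ≤ (m : ℤ) - (E - e) := by linarith
    have h1 : E * ((m : ℤ) - E) ≤ bY * ((m : ℤ) - bY) := by
      nlinarith [mul_nonneg (sub_nonneg.2 hbE) (sub_nonneg.2 hbE')]
    have h2 : (E - e) * ((m : ℤ) - (E - e)) ≤ s * ((m : ℤ) - s) := by
      nlinarith [mul_nonneg (sub_nonneg.2 hc1) (sub_nonneg.2 hc2)]
    have h3 : (E - e) * ((m : ℤ) - (E - e)) ≤ E * (E - 1) := by nlinarith
    rw [← he2] at h3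
    have h4 : e * (e - 1) * ((m : ℤ) - (e ^ 2 - e)) ≤ e * (e - 1) * (e * (e + 1)) := by nlinarith
    have h5 := le_of_mul_le_mul_left h4 (mul_pos (by linarith) (by linarith))
    nlinarith
  have hbeq : bY = E := by linarith
  have hmeqE : (m : ℤ) = 2 * E := by linarith
  have hpair : ∀ k, p • k = 0 → k ≠ 0 → ∀ u, Y u + Y (u + k) = 1 := by
    intro k hk hk0 u
    have hWz : W k = 0 := by rw [hWk k hk hk0]; linarith
    have h1 : Y u * Y (u + k) = 0 := (Finset.sum_eq_zero_iff_of_nonneg fun u _ =>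
      mul_nonneg (ind_coeff_nonneg _ _) (ind_coeff_nonneg _ _)).1 hWz u (Finset.mem_univ _)
    have h2z : ∑ v, (1 - Y v) * (1 - Y (v + k)) = 0 := by rw [hW', hWz]; linarith
    have h2 : (1 - Y u) * (1 - Y (u + k)) = 0 := (Finset.sum_eq_zero_iff_of_nonneg fun u _ =>
      mul_nonneg (hW'nn _) (hW'nn _)).1 h2z u (Finset.mem_univ _)
    rcases hY01 u with h | h <;> rcases hY01 (u + k) with h' | h' <;> rw [h, h'] at h1 h2 ⊢ <;> omega
  by_cases hp2 : p = 2
  swap
  · have h2k : k₀ + k₀ ≠ 0 := by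
      intro h
      have h2 : (2 : ℕ) • k₀ = 0 := by rw [two_nsmul]; exact h
      have h3 := addOrderOf_dvd_of_nsmul_eq_zero h2
      rw [addOrderOf_eq_prime hk₀p hk₀0] at h3
      exact hp2 ((Nat.prime_dvd_prime_iff_eq hp Nat.prime_two).1 h3)
    have e1 := hpair k₀ hk₀p hk₀0 0
    have e2 := hpair k₀ hk₀p hk₀0 (0 + k₀)
    have e3 := hpair (k₀ + k₀) (by rw [nsmul_add, hk₀p, add_zero]) h2k 0
    rw [add_assoc] at e2
    rcases hY01 (0 + k₀) with h | h <;> omega
  -- `p = 2`, so `m = 2 e ^ 2` is a power of two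
  subst hp2
  have hm₀ : m₀ = 1 := by rcases hpar with h | h; exacts [absurd rfl h, h]
  have hlam' : s = lam := by linarith
  have hWoff : ∀ z, 2 • z ≠ 0 → 2 * W z = E := by
    intro z hz
    have hz1 : z ≠ 0 := fun h => hz (by rw [h, nsmul_zero])
    have hz2 : z + k₀ ≠ 0 := fun h => hz (by
      rw [eq_neg_of_add_eq_zero_left h, smul_neg, hk₀p, neg_zero])
    have h1 := hGconst _ (hr1 z hz1)
    have h2 := hGconst _ (hr1 _ hz2)
    rw [hGr] at h1 h2
    rw [hXXper z k₀ hk₀p] at h2
    have h3 : W z + W (z + k₀) = bY := by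
      simp only [hW, ← Finset.sum_add_distrib, ← mul_add, hbY]
      refine Finset.sum_congr rfl fun u _ => ?_
      rw [← add_assoc, hpair k₀ hk₀p hk₀0 (u + z), mul_one]
    linarith
  have hEe : 4 ≤ E := by nlinarith
  obtain ⟨M4, hM4⟩ : 4 ∣ m := by
    have h8 : 8 ≤ m := by omega
    have h3 : 2 ≤ ea := by
      by_contra hlt
      push Not at hlt
      have : 2 ^ ea ≤ 2 ^ 1 := Nat.pow_le_pow_right (by norm_num) (by omega)
      rw [hmeq, hm₀] at h8
      omega
    rw [hmeq]
    exact (pow_dvd_pow 2 h3).mul_right _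
  set t : ZMod m := (M4 : ZMod m) with htdef
  have hM4pos : 0 < M4 := Nat.pos_of_ne_zero fun h => NeZero.ne m (by rw [hM4, h, mul_zero])
  have ht2 : 2 • t ≠ 0 := fun h => by
    rw [nsmul_eq_mul, htdef, ← Nat.cast_mul, ZMod.natCast_eq_zero_iff] at h
    have := Nat.le_of_dvd (by positivity) h
    omega
  have ht4 : (4 : ℕ) • t = 0 := by rw [nsmul_eq_mul, htdef, ← Nat.cast_mul, ← hM4, ZMod.natCast_self]
  have hXt : ∀ w, (4 : ℕ) • w ≠ 0 → X (w + t) = X w := by
    intro w hw
    refine (hxrat.eq_of_linked (S.linked_of_addOrderOf_eq ?_)).symm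
    have hz : ∀ v : ZMod m, (4 : ℕ) • v ≠ 0 → addOrderOf v = 2 * (2 * addOrderOf ((4 : ℕ) • v)) := by
      intro v hv
      have h2v : m₀ • (2 • v) ≠ 0 := fun h => hv (by
        rw [hm₀, one_nsmul] at h
        rw [show (4 : ℕ) = 2 * 2 by norm_num, mul_nsmul', h, nsmul_zero])
      have h1v : m₀ • v ≠ 0 := fun h => h2v (by rw [nsmul_left_comm, h, nsmul_zero])
      rw [addOrderOf_eq_prime_mul Nat.prime_two hmeq h1v, addOrderOf_eq_prime_mul Nat.prime_two hmeq h2v,
        show (4 : ℕ) = 2 * 2 by norm_num, mul_nsmul']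
    have h4 : (4 : ℕ) • (w + t) = (4 : ℕ) • w := by rw [nsmul_add, ht4, add_zero]
    rw [hz w hw, hz (w + t) (by rw [h4]; exact hw), h4]
  have hD : XX 0 - XX t ≤ 4 := by
    simp only [hXX, ← Finset.sum_sub_distrib]
    rw [← Finset.sum_subset (Finset.subset_univ ((Finset.range 4).image fun j : ℕ => j • t))]
    · refine le_trans (Finset.sum_le_card_nsmul _ _ 1 fun u _ => ?_) ?_
      · rcases h01 (r u) with a1 | a1 <;> rcases h01 (r (0 - u)) with a2 | a2 <;>
          rcases h01 (r (t - u)) with a3 | a3 <;> simp only [hX, a1, a2, a3] <;> norm_num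
      · rw [nsmul_eq_mul, mul_one]
        exact_mod_cast Finset.card_image_le.trans_eq (Finset.card_range 4)
    · intro u _ hu
      have h4u : (4 : ℕ) • u ≠ 0 := by
        intro h
        apply hu
        have h' : ((4 * u.val : ℕ) : ZMod m) = 0 := by
          rw [Nat.cast_mul, ZMod.natCast_rightInverse u, ← nsmul_eq_mul]; exact h
        rw [ZMod.natCast_eq_zero_iff] at h'
        have h'' : 4 * M4 ∣ 4 * u.val := hM4 ▸ h'
        obtain ⟨j, hj⟩ := (Nat.mul_dvd_mul_iff_left (by norm_num : 0 < 4)).1 h''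
        refine Finset.mem_image.2 ⟨j, Finset.mem_range.2 ?_, ?_⟩
        · have := ZMod.val_lt u
          nlinarith
        · rw [nsmul_eq_mul, htdef, ← Nat.cast_mul, mul_comm, ← hj, ZMod.natCast_rightInverse u]
      rw [zero_sub, show t - u = -u + t by ring, hXt (-u) (by rwa [smul_neg, neg_ne_zero]), sub_self]
  have hXXt : XX 0 - XX t = W t := by
    have h1 := hGconst _ (hr1 t fun h => ht2 (by rw [h, nsmul_zero]))
    rw [hGr] at h1
    linarith
  have hEle : E ≤ 8 := by have := hWoff t ht2; linarith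
  have hee : e = 2 := by
    obtain ⟨c, hc⟩ := hpe
    push_cast at hc
    nlinarith
  have hm8 : m = 8 := by
    have : (m : ℤ) = 8 := by rw [hmeqE, ← he2, hee]; norm_num
    exact_mod_cast this
  subst hm8
  have hM : M = 4 := by rw [hMdef]
  have hshift : ∀ u, Y u + Y (u + 4) = 1 := fun u => by
    have := hpair k₀ hk₀p hk₀0 u
    rwa [hk₀def, hM, Nat.cast_ofNat] at this
  refine negacyclic_false Y hY01 hshift ?_
  have := hWoff 1 (by decide)
  show W 1 = 2
  rw [← he2, hee] at this
  linarith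

end Scheme

end Cfsg.Agent.DihedralSchur
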