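import Mathlib

/-!
The group rings `ℤ[ZMod m]` and `ℤ[DihedralGroup m]`: rotation and reflection parts, congruences,
Frobenius.
-/

set_option autoImplicit false
set_option linter.unusedSectionVars false

noncomputable section

namespace Cfsg.Agent.DihedralSchur

open DihedralGroup

variable {m : ℕ} [NeZero m]

/-- The group ring of the rotations. -/
abbrev CR (m : ℕ) : Type := AddMonoidAlgebra ℤ (ZMod m)

/-- The group ring of the dihedral group. -/
abbrev DR (m : ℕ) : Type := MonoidAlgebra ℤ (DihedralGroup m)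

def ofC (f : ZMod m → ℤ) : CR m := AddMonoidAlgebra.ofCoeff (Finsupp.equivFunOnFinite.symm f)

def ofD (f : DihedralGroup m → ℤ) : DR m := MonoidAlgebra.ofCoeff (Finsupp.equivFunOnFinite.symm f)

@[simp] theorem ofC_coeff (f : ZMod m → ℤ) (z : ZMod m) : (ofC f).coeff z = f z := by simp [ofC]

@[simp] theorem ofD_coeff (f : DihedralGroup m → ℤ) (z : DihedralGroup m) : (ofD f).coeff z = f z := by
  simp [ofD]

theorem extC {X Y : CR m} (h : ∀ z, X.coeff z = Y.coeff z) : X = Y :=
  AddMonoidAlgebra.coeff_injective (Finsupp.ext h)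

theorem extD {x y : DR m} (h : ∀ z, x.coeff z = y.coeff z) : x = y :=
  MonoidAlgebra.coeff_injective (Finsupp.ext h)

theorem mulC_coeff (X Y : CR m) (z : ZMod m) :
    (X * Y).coeff z = ∑ u, X.coeff u * Y.coeff (z - u) := by
  rw [AddMonoidAlgebra.coeff_mul_apply_left, Finsupp.sum_fintype _ _ (fun _ => zero_mul _)]
  simp [neg_add_eq_sub]

theorem sum_dihedral {α : Type*} [AddCommMonoid α] (F : DihedralGroup m → α) :
    ∑ d, F d = ∑ u, F (r u) + ∑ u, F (sr u) := by
  let e : DihedralGroup m ≃ ZMod m ⊕ ZMod m :=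
    { toFun := fun
        | r u => .inl u
        | sr u => .inr u
      invFun := fun
        | .inl u => r u
        | .inr u => sr u
      left_inv := by rintro (u | u) <;> rfl
      right_inv := by rintro (u | u) <;> rfl }
  rw [← e.symm.sum_comp F, Fintype.sum_sum_type]
  rfl

theorem mulD_coeff (x y : DR m) (g : DihedralGroup m) :
    (x * y).coeff g = ∑ d, x.coeff d * y.coeff (d⁻¹ * g) := by
  rw [MonoidAlgebra.coeff_mul_apply_left, Finsupp.sum_fintype _ _ (fun _ => zero_mul _)]

/-- The inversion of the rotation group ring. -/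
def star' : CR m →+* CR m :=
  AddMonoidAlgebra.mapDomainRingHom ℤ (-(AddMonoidHom.id (ZMod m)))

@[simp] theorem star'_coeff (X : CR m) (z : ZMod m) : (star' X).coeff z = X.coeff (-z) := by
  induction X using AddMonoidAlgebra.induction_linear with
  | zero => simp
  | add X Y hX hY => simp [hX, hY]
  | single u c => simp [star', Finsupp.single_apply, neg_eq_iff_eq_neg]

/-- The embedding of the rotations. -/
def rot : CR m →+* DR m where
  toFun X := ofD fun
    | r z => X.coeff z
    | sr _ => 0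
  map_zero' := extD (by rintro (z | z) <;> simp)
  map_add' X Y := extD (by rintro (z | z) <;> simp)
  map_one' := extD (by
    rintro (z | z) <;> simp [AddMonoidAlgebra.one_def, MonoidAlgebra.one_def, Finsupp.single_apply,
      ← DihedralGroup.r_zero])
  map_mul' X Y := extD (by
    rintro (z | z) <;> simp only [ofD_coeff] <;> rw [mulD_coeff, sum_dihedral]
    · simp [mulC_coeff, neg_add_eq_sub]
    · simp)

@[simp] theorem rot_r (X : CR m) (z : ZMod m) : (rot X).coeff (r z) = X.coeff z := by simp [rot]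

@[simp] theorem rot_sr (X : CR m) (z : ZMod m) : (rot X).coeff (sr z) = 0 := by simp [rot]

/-- A fixed reflection. -/
def refl' : DR m := MonoidAlgebra.single (sr 0) 1

/-- Rotation part. -/
def cp : DR m →+ CR m where
  toFun x := ofC fun z => x.coeff (r z)
  map_zero' := extC (by simp)
  map_add' x y := extC (by simp)

/-- Reflection part. -/
def yp : DR m →+ CR m where
  toFun x := ofC fun z => x.coeff (sr z)
  map_zero' := extC (by simp)
  map_add' x y := extC (by simp)

@[simp] theorem cp_coeff (x : DR m) (z : ZMod m) : (cp x).coeff z = x.coeff (r z) := by simp [cp]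

@[simp] theorem yp_coeff (x : DR m) (z : ZMod m) : (yp x).coeff z = x.coeff (sr z) := by simp [yp]

@[simp] theorem refl'_rot_r (Y : CR m) (z : ZMod m) : (refl' * rot Y).coeff (r z) = 0 := by
  simp [refl']

@[simp] theorem refl'_rot_sr (Y : CR m) (z : ZMod m) :
    (refl' * rot Y).coeff (sr z) = Y.coeff z := by
  simp [refl']

@[simp] theorem cp_rot (X : CR m) : cp (rot X) = X := extC (by simp)

@[simp] theorem yp_rot (X : CR m) : yp (rot X) = 0 := extC (by simp)

@[simp] theorem cp_refl' (Y : CR m) : cp (refl' * rot Y) = 0 := extC (by simp)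

@[simp] theorem yp_refl' (Y : CR m) : yp (refl' * rot Y) = Y := extC (by simp)

theorem decomp (x : DR m) : x = rot (cp x) + refl' * rot (yp x) :=
  extD (by rintro (z | z) <;> simp)

theorem rot_mul_refl' (X : CR m) : rot X * refl' = refl' * rot (star' X) :=
  extD (by rintro (z | z) <;> simp [refl'])

theorem refl'_sq : (refl' : DR m) * refl' = 1 := by
  simp [refl', MonoidAlgebra.one_def]

theorem refl'_rot_mul (Y Y' : CR m) :
    refl' * rot Y * (refl' * rot Y') = rot (star' Y * Y') := by
  rw [mul_assoc, ← mul_assoc (rot Y), rot_mul_refl', ← mul_assoc, ← mul_assoc, refl'_sq, one_mul,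
    ← map_mul]

theorem cp_mul (x y : DR m) : cp (x * y) = cp x * cp y + star' (yp x) * yp y := by
  conv_lhs => rw [decomp x, decomp y]
  rw [add_mul, mul_add, mul_add, ← mul_assoc (rot (cp x)), rot_mul_refl', refl'_rot_mul,
    mul_assoc refl' (rot (star' _)), mul_assoc refl' (rot (yp x))]
  simp only [← map_mul rot, map_add, cp_rot, yp_rot, cp_refl', yp_refl']
  abel

theorem yp_mul (x y : DR m) : yp (x * y) = star' (cp x) * yp y + yp x * cp y := by
  conv_lhs => rw [decomp x, decomp y]
  rw [add_mul, mul_add, mul_add, ← mul_assoc (rot (cp x)), rot_mul_refl', refl'_rot_mul,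
    mul_assoc refl' (rot (star' _)), mul_assoc refl' (rot (yp x))]
  simp only [← map_mul rot, map_add, cp_rot, yp_rot, cp_refl', yp_refl']
  abel

/-- Divisibility by a natural number is coefficientwise. -/
theorem natCast_dvdC {n : ℕ} {X : CR m} : (n : CR m) ∣ X ↔ ∀ z, (n : ℤ) ∣ X.coeff z := by
  constructor
  · rintro ⟨c, rfl⟩ z
    rw [← nsmul_eq_mul, AddMonoidAlgebra.coeff_smul_apply, nsmul_eq_mul]
    exact dvd_mul_right _ _
  · intro h
    refine ⟨ofC fun z => X.coeff z / n, extC fun z => ?_⟩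
    rw [← nsmul_eq_mul, AddMonoidAlgebra.coeff_smul_apply, nsmul_eq_mul, ofC_coeff,
      Int.mul_ediv_cancel' (h z)]

theorem natCast_dvdD {n : ℕ} {x : DR m} : (n : DR m) ∣ x ↔ ∀ z, (n : ℤ) ∣ x.coeff z := by
  constructor
  · rintro ⟨c, rfl⟩ z
    rw [← nsmul_eq_mul, MonoidAlgebra.coeff_smul_apply, nsmul_eq_mul]
    exact dvd_mul_right _ _
  · intro h
    refine ⟨ofD fun z => x.coeff z / n, extD fun z => ?_⟩
    rw [← nsmul_eq_mul, MonoidAlgebra.coeff_smul_apply, nsmul_eq_mul, ofD_coeff,
      Int.mul_ediv_cancel' (h z)]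

theorem cp_natCast_mul (n : ℕ) (x : DR m) : cp ((n : DR m) * x) = (n : CR m) * cp x := by
  rw [← nsmul_eq_mul, map_nsmul, nsmul_eq_mul]

theorem yp_natCast_mul (n : ℕ) (x : DR m) : yp ((n : DR m) * x) = (n : CR m) * yp x := by
  rw [← nsmul_eq_mul, map_nsmul, nsmul_eq_mul]

/-- The `L`-th multiplier. -/
def fr (L : ℕ) (X : CR m) : CR m := ofC fun z => ∑ u, if L • u = z then X.coeff u else 0

theorem fr_single (L : ℕ) (u : ZMod m) (c : ℤ) :
    fr L (AddMonoidAlgebra.single u c) = AddMonoidAlgebra.single (L • u) c :=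
  extC fun z => by
    rw [fr, ofC_coeff, Finset.sum_eq_single u (fun v _ hv => by simp [Ne.symm hv]) (by simp)]
    simp [Finsupp.single_apply]

theorem frobenius_congr {p : ℕ} (hp : p.Prime) (N : ℕ) (X : CR m) :
    (p : CR m) ∣ X ^ (p ^ N) - fr (p ^ N) X := by
  induction X using AddMonoidAlgebra.induction_linear with
  | zero =>
    rw [zero_pow (pow_ne_zero _ hp.ne_zero), zero_sub, dvd_neg]
    exact natCast_dvdC.2 fun z => by simp [fr]
  | add X Y hX hY =>
    obtain ⟨c, hc⟩ := exists_add_pow_prime_pow_eq hp X Y N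
    have hadd : fr (p ^ N) (X + Y) = fr (p ^ N) X + fr (p ^ N) Y := extC fun z => by
      simp only [fr, AddMonoidAlgebra.coeff_add, Finsupp.add_apply, ofC_coeff,
        ← Finset.sum_add_distrib]
      exact Finset.sum_congr rfl fun u _ => by split_ifs <;> simp
    rw [hc, hadd, show X ^ p ^ N + Y ^ p ^ N + (p : CR m) * X * Y * c - (fr (p ^ N) X + fr (p ^ N) Y)
      = (X ^ p ^ N - fr (p ^ N) X) + (Y ^ p ^ N - fr (p ^ N) Y) + (p : CR m) * (X * Y * c) by ring]
    exact dvd_add (dvd_add hX hY) (dvd_mul_right _ _)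
  | single u c =>
    rw [fr_single, AddMonoidAlgebra.single_pow, ← AddMonoidAlgebra.single_sub]
    refine natCast_dvdC.2 fun z => ?_
    rw [AddMonoidAlgebra.coeff_single, Finsupp.single_apply]
    split_ifs with h
    · have : Fact p.Prime := ⟨hp⟩
      rw [← ZMod.intCast_zmod_eq_zero_iff_dvd]
      push_cast
      rw [ZMod.pow_card_pow, sub_self]
    · exact dvd_zero _

/-- Support killed by `n`. -/
def Supp (n : ℕ) (X : CR m) : Prop := ∀ z, n • z ≠ 0 → X.coeff z = 0

theorem Supp.add {n : ℕ} {X Y : CR m} (hX : Supp n X) (hY : Supp n Y) : Supp n (X + Y) :=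
  fun z hz => by simp [hX z hz, hY z hz]

theorem Supp.zero (n : ℕ) : Supp n (0 : CR m) := fun z _ => by simp

theorem Supp.one (n : ℕ) : Supp n (1 : CR m) := fun z hz => by
  have : z ≠ 0 := fun h => hz (by rw [h, nsmul_zero])
  simp [AddMonoidAlgebra.one_def, Finsupp.single_apply, this.symm]

theorem Supp.mul {n : ℕ} {X Y : CR m} (hX : Supp n X) (hY : Supp n Y) : Supp n (X * Y) := by
  intro z hz
  rw [mulC_coeff]
  refine Finset.sum_eq_zero fun u _ => ?_
  by_cases hu : n • u = 0
  · rw [hY (z - u) (by rwa [nsmul_sub, hu, sub_zero]), mul_zero]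
  · rw [hX u hu, zero_mul]

theorem Supp.pow {n : ℕ} {X : CR m} (hX : Supp n X) (k : ℕ) : Supp n (X ^ k) := by
  induction k with
  | zero => rw [pow_zero]; exact Supp.one n
  | succ k ih => rw [pow_succ]; exact ih.mul hX

theorem Supp.natCast_mul {n : ℕ} {X : CR m} (hX : Supp n X) (k : ℕ) : Supp n ((k : CR m) * X) :=
  fun z hz => by rw [← nsmul_eq_mul, AddMonoidAlgebra.coeff_smul_apply, hX z hz, smul_zero]

theorem Supp.sum {n : ℕ} {ι : Type*} (s : Finset ι) {X : ι → CR m} (h : ∀ i ∈ s, Supp n (X i)) :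
    Supp n (∑ i ∈ s, X i) := Finset.sum_induction X (Supp n) (fun _ _ => Supp.add) (Supp.zero n) h

end Cfsg.Agent.DihedralSchur
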