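import Cfsg.Agent.Lib.DihedralSchur.Scheme

/-!
For an odd prime `p` dividing `m`, no nontrivial class has its rotation part inside the `p'`-part:
the elements with such rotation parts would form a subring, hence give a subgroup.
-/

set_option autoImplicit false
set_option linter.unusedSectionVars false

noncomputable section

namespace Cfsg.Agent.DihedralSchur

open DihedralGroup

variable {m : ℕ} [NeZero m]

section power

variable {X Y : CR m}

theorem commute_parts (hX : star' X = X) : Commute (rot X) (refl' * rot Y) := by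
  show rot X * (refl' * rot Y) = refl' * rot Y * rot X
  rw [← mul_assoc, rot_mul_refl', hX, mul_assoc, mul_assoc, ← map_mul rot, ← map_mul rot, mul_comm X]

theorem refl_pow_even (j : ℕ) : (refl' * rot Y) ^ (2 * j) = rot ((star' Y * Y) ^ j) := by
  rw [pow_mul, pow_two, refl'_rot_mul, map_pow]

theorem refl_pow_odd (j : ℕ) :
    (refl' * rot Y) ^ (2 * j + 1) = refl' * rot (Y * (star' Y * Y) ^ j) := by
  rw [pow_succ', refl_pow_even, mul_assoc, ← map_mul rot]

end power

/-- Rotation and reflection parts of an odd prime power modulo the prime. -/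
theorem pow_parts (S : Scheme m) (x : S.ring) {p N h : ℕ} (hp : p.Prime) (hN : p ^ N = 2 * h + 1) :
    (p : CR m) ∣ cp ((x ^ p ^ N : S.ring) : DR m) - cp (x : DR m) ^ (p ^ N) ∧
      (p : CR m) ∣ yp ((x ^ p ^ N : S.ring) : DR m) -
        yp (x : DR m) * (star' (yp (x : DR m)) * yp (x : DR m)) ^ h := by
  obtain ⟨c, hc⟩ := (commute_parts (Y := yp (x : DR m)) (S.star'_cp x.2)).exists_add_pow_prime_pow_eq hp N
  have hB : (refl' * rot (yp (x : DR m))) ^ p ^ N =
      refl' * rot (yp (x : DR m) * (star' (yp (x : DR m)) * yp (x : DR m)) ^ h) := by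
    rw [hN, refl_pow_odd]
  have hx : ((x ^ p ^ N : S.ring) : DR m) = rot (cp (x : DR m)) ^ p ^ N +
      (refl' * rot (yp (x : DR m))) ^ p ^ N + (p : DR m) * rot (cp (x : DR m)) *
        (refl' * rot (yp (x : DR m))) * c := by
    rw [Subring.coe_pow, ← hc, ← decomp]
  rw [hx, hB, ← map_pow, mul_assoc (p : DR m), mul_assoc (p : DR m)]
  constructor
  · rw [map_add, map_add, cp_rot, cp_refl', cp_natCast_mul, add_zero, add_sub_cancel_left]
    exact dvd_mul_right _ _
  · rw [map_add, map_add, yp_rot, yp_refl', yp_natCast_mul, zero_add, add_sub_cancel_left]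
    exact dvd_mul_right _ _

/-- Divisibility of the rotation coefficients outside the `m₀`-part. -/
def Nr (S : Scheme m) (m₀ d : ℕ) (x : S.ring) : Prop :=
  ∀ z : ZMod m, m₀ • z ≠ 0 → (d : ℤ) ∣ (x : DR m).coeff (r z)

namespace Nr

variable {S : Scheme m} {m₀ d : ℕ} {x y : S.ring}

theorem add (hx : Nr S m₀ d x) (hy : Nr S m₀ d y) : Nr S m₀ d (x + y) := fun z hz => by
  simpa using dvd_add (hx z hz) (hy z hz)

theorem of_dvd_sub (h : (d : S.ring) ∣ x - y) (hy : Nr S m₀ d y) : Nr S m₀ d x := by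
  obtain ⟨c, hc⟩ := h
  intro z hz
  rw [sub_eq_iff_eq_add.1 hc, Subring.coe_add, Subring.coe_mul, Subring.coe_natCast, ← nsmul_eq_mul,
    MonoidAlgebra.coeff_add, Finsupp.add_apply, MonoidAlgebra.coeff_smul_apply, nsmul_eq_mul]
  exact dvd_add (dvd_mul_right _ _) (hy z hz)

theorem natCast_mul (e : ℕ) (hx : Nr S m₀ d x) : Nr S m₀ (e * d) ((e : S.ring) * x) := by
  intro z hz
  rw [Subring.coe_mul, Subring.coe_natCast, ← nsmul_eq_mul, MonoidAlgebra.coeff_smul_apply,
    nsmul_eq_mul, Nat.cast_mul]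
  exact mul_dvd_mul_left _ (hx z hz)

theorem mono {e : ℕ} (h : e ∣ d) (hx : Nr S m₀ d x) : Nr S m₀ e x :=
  fun z hz => (Int.natCast_dvd_natCast.2 h).trans (hx z hz)

end Nr

open Classical in
/-- The projection on the classes inside the `m₀`-part. -/
def proj (S : Scheme m) (m₀ : ℕ) (x : S.ring) : S.ring :=
  ⟨ofD fun a => if ∀ z, S.rel a (r z) → m₀ • z = 0 then (x : DR m).coeff a else 0, fun a b h => by
    have : (∀ z, S.rel a (r z) → m₀ • z = 0) ↔ ∀ z, S.rel b (r z) → m₀ • z = 0 :=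
      ⟨fun H z hz => H z (S.trans h hz), fun H z hz => H z (S.trans (S.symm h) hz)⟩
    simp only [ofD_coeff, this, x.2 a b h]⟩

theorem proj_supp (S : Scheme m) (m₀ : ℕ) (x : S.ring) : Supp m₀ (cp (proj S m₀ x : DR m)) :=
  fun z hz => by
    rw [cp_coeff, proj, ofD_coeff, if_neg fun H => hz (H z (S.refl _))]

theorem dvd_sub_proj {S : Scheme m} {m₀ d : ℕ} (hm : 2 ≤ m) {x : S.ring} (hx : Nr S m₀ d x) :
    (d : S.ring) ∣ x - proj S m₀ x := by
  refine (S.natCast_dvd hm).2 (natCast_dvdC.2 fun z => ?_)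
  rw [cp_coeff, AddSubgroupClass.coe_sub, MonoidAlgebra.coeff_sub, Finsupp.sub_apply, proj, ofD_coeff]
  split_ifs with H
  · rw [sub_self]; exact dvd_zero _
  · push Not at H
    obtain ⟨w, hw, hw0⟩ := H
    rw [sub_zero, x.2 (r z) (r w) hw]
    exact hx w hw0

/-- The product of two elements with rotation part in the `p'`-part has the same property. -/
theorem supp_mul (S : Scheme m) {p a m₀ : ℕ} (hp : p.Prime) (hp2 : p ≠ 2) (ha : a ≠ 0)
    (hcop : ¬ p ∣ m₀) (hm : m = p ^ a * m₀) (v w : S.ring) (hv : Supp m₀ (cp (v : DR m)))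
    (hw : Supp m₀ (cp (w : DR m))) : Supp m₀ (cp ((v * w : S.ring) : DR m)) := by
  have hm₀ : m₀ ≠ 0 := fun h => hcop (h ▸ dvd_zero p)
  have hm2 : 2 ≤ m := by
    have h1 : 2 ≤ p ^ a := hp.two_le.trans (Nat.le_self_pow ha p)
    have h2 : 1 ≤ m₀ := Nat.one_le_iff_ne_zero.2 hm₀
    rw [hm]
    nlinarith
  set N := m₀.totient * a with hNdef
  have hNa : a ≤ N := Nat.le_mul_of_pos_left a (Nat.totient_pos.2 (Nat.pos_of_ne_zero hm₀))
  obtain ⟨h, hL⟩ : Odd (p ^ N) := (hp.odd_of_ne_two hp2).pow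
  have hmod : p ^ N ≡ 1 [MOD m₀] := by
    rw [hNdef, pow_mul]
    simpa using (Nat.ModEq.pow_totient ((hp.coprime_iff_not_dvd).2 hcop)).pow a
  -- the multiplier
  have hfrsupp : ∀ X : CR m, Supp m₀ (fr (p ^ N) X) := by
    intro X z hz
    rw [fr, ofC_coeff]
    refine Finset.sum_eq_zero fun u _ => if_neg fun e => hz ?_
    rw [← e, ← mul_nsmul', nsmul_eq_mul]
    have hdvd : m ∣ m₀ * p ^ N := by
      rw [hm, mul_comm]; exact mul_dvd_mul_left _ (pow_dvd_pow p hNa)
    rw [(ZMod.natCast_eq_zero_iff _ _).2 hdvd |> fun e => (e : ((m₀ * p ^ N : ℕ) : ZMod m) = 0), zero_mul]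
  have hfix : ∀ u : ZMod m, m₀ • u = 0 → p ^ N • u = u := by
    intro u hu
    obtain ⟨k, hk⟩ := (Nat.modEq_iff_dvd' (Nat.one_le_pow _ _ hp.pos)).1 hmod.symm
    rw [show p ^ N = k * m₀ + 1 by rw [mul_comm, ← hk]; have := Nat.one_le_pow N p hp.pos; omega,
      add_nsmul, mul_nsmul', hu, nsmul_zero, zero_add, one_nsmul]
  have hfreq : ∀ X : CR m, Supp m₀ X → fr (p ^ N) X = X := by
    intro X hX
    refine extC fun z => ?_
    rw [fr, ofC_coeff, Finset.sum_eq_single z]
    · by_cases hz : m₀ • z = 0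
      · rw [if_pos (hfix z hz)]
      · rw [hX z hz]; simp
    · intro u _ hu
      split_ifs with e
      · exact hX u fun h0 => hu (by rw [← e, hfix u h0])
      · rfl
    · simp
  -- (i) powers are near the subring, (ii) elements of the subring are fixed
  have hi : ∀ x : S.ring, Nr S m₀ p (x ^ p ^ N) := by
    intro x z hz
    have h1 := natCast_dvdC.1 (dvd_add (pow_parts S x hp hL).1 (frobenius_congr hp N (cp (x : DR m)))) z
    simpa [hfrsupp _ z hz] using h1
  have hii : ∀ v : S.ring, Supp m₀ (cp (v : DR m)) → (p : S.ring) ∣ v ^ p ^ N - v := by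
    intro v hv
    refine (S.natCast_dvd hm2).2 ?_
    have h1 := dvd_add (pow_parts S v hp hL).1 (frobenius_congr hp N (cp (v : DR m)))
    rw [hfreq _ hv, sub_add_sub_cancel] at h1
    rwa [AddSubgroupClass.coe_sub, map_sub]
  -- (iv) high powers of elements of the subring
  have hiv : ∀ v : S.ring, Supp m₀ (cp (v : DR m)) → ∀ n : ℕ, Nr S m₀ (p ^ n) (v ^ p ^ n) := by
    intro v hv n
    set X := cp (v : DR m) with hX
    set Y := yp (v : DR m) with hY
    set W := star' Y * Y with hW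
    obtain ⟨c, hc⟩ := hii v hv
    have hyW : (p : CR m) ∣ Y * W ^ h - Y := by
      have h1 := (pow_parts S v hp hL).2
      have h2 : (p : CR m) ∣ yp ((v ^ p ^ N : S.ring) : DR m) - Y := by
        rw [hY, ← map_sub, ← AddSubgroupClass.coe_sub, hc, Subring.coe_mul, Subring.coe_natCast, yp_natCast_mul]
        exact dvd_mul_right _ _
      have h3 := dvd_sub h2 h1
      rwa [sub_sub_sub_cancel_left] at h3
    have hWW : (p : CR m) ∣ W ^ (2 * h + 1) - W := by
      have h1 : (p : CR m) ∣ W ^ (h + 1) - W := by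
        have := hyW.mul_left (star' Y)
        rwa [mul_sub, ← mul_assoc, ← hW, ← pow_succ'] at this
      rw [show W ^ (2 * h + 1) - W = W ^ h * (W ^ (h + 1) - W) + (W ^ (h + 1) - W) by ring]
      exact dvd_add (h1.mul_left _) h1
    set W₀ := fr (p ^ N) W with hW₀
    have hWW₀ : (p : CR m) ∣ W - W₀ := by
      rw [← hL] at hWW
      have h1 := dvd_sub (frobenius_congr hp N W) hWW
      rwa [sub_sub_sub_cancel_left] at h1
    intro z hz
    have hsum := (commute_parts (Y := Y) (S.star'_cp v.2)).add_pow (p ^ n)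
    rw [← decomp] at hsum
    rw [Subring.coe_pow, ← cp_coeff, hsum, map_sum, AddMonoidAlgebra.coeff_sum,
      Finsupp.finsetSum_apply]
    refine Finset.dvd_sum fun i hi => ?_
    rw [← (Nat.cast_commute ((p ^ n).choose i) _).eq, cp_natCast_mul]
    obtain ⟨j, hj | hj⟩ := Nat.even_or_odd' (p ^ n - i)
    · rw [hj, refl_pow_even, ← map_pow, ← map_mul, cp_rot]
      by_cases hj0 : j = 0
      · subst hj0
        rw [pow_zero, mul_one, ((hv.pow i).natCast_mul _) z hz]
        exact dvd_zero _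
      obtain ⟨t, q, hq, rfl⟩ := Nat.exists_eq_pow_mul_and_not_dvd hj0 p hp.ne_one
      have hdiff : ((p : CR m) ^ (t + 1)) ∣ W ^ (p ^ t * q) - W₀ ^ (p ^ t * q) := by
        rw [pow_mul, pow_mul]
        exact (dvd_sub_pow_of_dvd_sub hWW₀ t).trans (sub_dvd_pow_sub_pow _ _ q)
      have hC : p ^ n ∣ (p ^ n).choose i * p ^ t := by
        have hin : i ≤ p ^ n := Nat.lt_succ_iff.1 (Finset.mem_range.1 hi)
        have hpos : 0 < p ^ t * q := Nat.pos_of_ne_zero hj0
        have h1 := Nat.add_one_mul_choose_eq (p ^ n - 1) (p ^ n - i - 1)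
        rw [Nat.sub_add_cancel (Nat.one_le_pow _ _ hp.pos), Nat.sub_add_cancel (by omega),
          Nat.choose_symm hin, hj] at h1
        have h2 : p ^ n ∣ (p ^ n).choose i * p ^ t * (2 * q) :=
          ⟨_, by rw [h1]; ring⟩
        have hcq : (p ^ n).Coprime (2 * q) := Nat.Coprime.pow_left n (Nat.Coprime.mul_right
          ((Nat.coprime_primes hp Nat.prime_two).2 hp2) (hp.coprime_iff_not_dvd.2 hq))
        exact hcq.dvd_of_dvd_mul_right h2
      have hC' : ((p ^ n : ℕ) : CR m) ∣ ((p ^ n).choose i : CR m) * (W ^ (p ^ t * q) - W₀ ^ (p ^ t * q)) := by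
        obtain ⟨d, hd⟩ := hdiff
        obtain ⟨e, he⟩ := hC
        refine ⟨(e : CR m) * ((p : CR m) * d), ?_⟩
        have he' : ((p ^ n).choose i : CR m) * (p : CR m) ^ t = ((p ^ n : ℕ) : CR m) * (e : CR m) := by
          exact_mod_cast congrArg (fun k : ℕ => (k : CR m)) he
        rw [hd, pow_succ, ← mul_assoc, ← mul_assoc, he']
        ring
      have hsplit : ((p ^ n).choose i : CR m) * (X ^ i * W ^ (p ^ t * q)) =
          X ^ i * (((p ^ n).choose i : CR m) * (W ^ (p ^ t * q) - W₀ ^ (p ^ t * q))) +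
            ((p ^ n).choose i : CR m) * (X ^ i * W₀ ^ (p ^ t * q)) := by ring
      rw [hsplit, AddMonoidAlgebra.coeff_add, Finsupp.add_apply]
      refine dvd_add (natCast_dvdC.1 (hC'.mul_left _) z) ?_
      rw [(((hv.pow i).mul ((hfrsupp W).pow _)).natCast_mul _) z hz]
      exact dvd_zero _
    · rw [hj, refl_pow_odd, ← map_pow, ← mul_assoc, rot_mul_refl', mul_assoc, ← map_mul, cp_refl',
        mul_zero]
      simp
  -- (v) products are near modulo `p`
  have hv' : ∀ v w : S.ring, Supp m₀ (cp (v : DR m)) → Supp m₀ (cp (w : DR m)) → Nr S m₀ p (v * w) := by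
    intro v w hv hw
    refine Nr.of_dvd_sub ?_ (hi (v * w))
    rw [mul_pow, show v * w - v ^ p ^ N * w ^ p ^ N =
      -((v ^ p ^ N - v) * w ^ p ^ N + v * (w ^ p ^ N - w)) by ring]
    exact (dvd_add ((hii v hv).mul_right _) ((hii w hw).mul_left _)).neg_right
  -- (vi) successive approximation
  have key : ∀ j s : ℕ, s ≤ N * j → ∀ v w : S.ring, Supp m₀ (cp (v : DR m)) →
      Supp m₀ (cp (w : DR m)) → Nr S m₀ (p ^ s) (v * w) := by
    intro j s
    induction s with
    | zero => intro _ v w _ _ z _; simp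
    | succ s ih =>
      intro hs v w hv hw
      have hpow : ∀ (x : S.ring), (p : S.ring) ∣ x ^ p ^ N - x → (p : S.ring) ∣ x ^ p ^ (N * j) - x := by
        intro x hx
        clear hs ih
        induction j with
        | zero => simp
        | succ j ihj =>
          rw [show N * (j + 1) = N * j + N by ring, pow_add, pow_mul,
            show (x ^ p ^ (N * j)) ^ p ^ N - x = ((x ^ p ^ (N * j)) ^ p ^ N - x ^ p ^ N) + (x ^ p ^ N - x) by ring]
          exact dvd_add (ihj.trans (sub_dvd_pow_sub_pow _ _ _)) hx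
      have hsplit : ∀ x : S.ring, Supp m₀ (cp (x : DR m)) → ∃ x₁ : S.ring,
          Supp m₀ (cp (x₁ : DR m)) ∧ x = proj S m₀ (x ^ p ^ (N * j)) + (p : S.ring) * x₁ := by
        intro x hx
        have h1 : (p : S.ring) ∣ x - proj S m₀ (x ^ p ^ (N * j)) := by
          by_cases hj : N * j = 0
          · rw [hj, pow_zero, pow_one]
            refine dvd_sub_proj hm2 fun z hz => ?_
            rw [← cp_coeff, hx z hz]; exact dvd_zero _
          have h2 : (p : S.ring) ∣ x ^ p ^ (N * j) - proj S m₀ (x ^ p ^ (N * j)) :=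
            dvd_sub_proj hm2 ((hiv x hx (N * j)).mono (dvd_pow_self p hj))
          have h3 := dvd_sub h2 (hpow x (hii x hx))
          rwa [sub_sub_sub_cancel_left] at h3
        obtain ⟨c, hc⟩ := h1
        refine ⟨c, fun z hz => ?_, by rw [← hc]; ring⟩
        have h4 := congrArg (fun y : S.ring => (cp (y : DR m)).coeff z) hc
        simp only [AddSubgroupClass.coe_sub, map_sub, Subring.coe_mul, Subring.coe_natCast, cp_natCast_mul,
          AddMonoidAlgebra.coeff_sub, Finsupp.sub_apply, hx z hz, proj_supp S m₀ _ z hz,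
          ← nsmul_eq_mul, AddSubmonoidClass.coe_nsmul, map_nsmul, AddMonoidAlgebra.coeff_smul_apply,
          sub_zero] at h4
        rcases smul_eq_zero.1 h4.symm with h5 | h5
        · exact absurd h5 hp.ne_zero
        · exact h5
      obtain ⟨v₁, hv₁, hv₁'⟩ := hsplit v hv
      obtain ⟨w₁, hw₁, hw₁'⟩ := hsplit w hw
      set v' := proj S m₀ (v ^ p ^ (N * j)) with hv'def
      set w' := proj S m₀ (w ^ p ^ (N * j)) with hw'def
      have hbase : Nr S m₀ (p ^ (N * j)) (v' * w') := by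
        have hu := dvd_sub_pow_of_dvd_sub (dvd_sub_proj hm2 (hv' v w hv hw)) (N * j)
        have h1 : ((p ^ (N * j) : ℕ) : S.ring) ∣ v ^ p ^ (N * j) - v' := dvd_sub_proj hm2 (hiv v hv _)
        have h2 : ((p ^ (N * j) : ℕ) : S.ring) ∣ w ^ p ^ (N * j) - w' := dvd_sub_proj hm2 (hiv w hw _)
        refine Nr.of_dvd_sub ?_ (hiv (proj S m₀ (v * w)) (proj_supp S m₀ _) (N * j))
        have h3 : ((p ^ (N * j) : ℕ) : S.ring) ∣ (v * w) ^ p ^ (N * j) - proj S m₀ (v * w) ^ p ^ (N * j) := by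
          rw [Nat.cast_pow]
          exact (pow_dvd_pow _ (Nat.le_succ _)).trans hu
        rw [show v' * w' - proj S m₀ (v * w) ^ p ^ (N * j) =
          ((v * w) ^ p ^ (N * j) - proj S m₀ (v * w) ^ p ^ (N * j)) -
            ((v ^ p ^ (N * j) - v') * w ^ p ^ (N * j) + v' * (w ^ p ^ (N * j) - w')) by ring]
        exact dvd_sub h3 (dvd_add (h1.mul_right _) (h2.mul_left _))
      have hrest : Nr S m₀ (p ^ (s + 1)) ((p : S.ring) * (v₁ * w' + v * w₁)) := by
        rw [pow_succ']
        exact ((ih (by omega) v₁ w' hv₁ (proj_supp S m₀ _)).add (ih (by omega) v w₁ hv hw₁)).natCast_mul p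
      have heq : v * w = v' * w' + (p : S.ring) * (v₁ * w' + v * w₁) := by
        calc v * w = v * (w' + (p : S.ring) * w₁) := by rw [← hw₁']
          _ = (v' + (p : S.ring) * v₁) * w' + (p : S.ring) * (v * w₁) := by rw [← hv₁']; ring
          _ = _ := by ring
      rw [heq]
      exact (hbase.mono (pow_dvd_pow p hs)).add hrest
  intro z hz
  rw [cp_coeff]
  set c := ((v * w : S.ring) : DR m).coeff (r z) with hcdef
  have hN0 : 1 ≤ N := le_trans (Nat.one_le_iff_ne_zero.2 ha) hNa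
  have h1 := key c.natAbs c.natAbs (Nat.le_mul_of_pos_left _ hN0) v w hv hw z hz
  refine Int.eq_zero_of_dvd_of_natAbs_lt_natAbs h1 ?_
  simpa using Nat.lt_pow_self hp.one_lt

/-- No nontrivial class has all its rotations in the `p'`-part. -/
theorem not_pure (S : Scheme m) {p a m₀ : ℕ} (hp : p.Prime) (hp2 : p ≠ 2) (ha : a ≠ 0)
    (hcop : ¬ p ∣ m₀) (hm : m = p ^ a * m₀) {d : DihedralGroup m} (hd : d ≠ 1) :
    ∃ z, S.rel d (r z) ∧ m₀ • z ≠ 0 := by
  by_contra hcon
  push Not at hcon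
  have hm0 : 0 < m₀ := Nat.pos_of_ne_zero fun h => hcop (h ▸ dvd_zero p)
  set T := {b | ∀ z, S.rel b (r z) → m₀ • z = 0} with hT
  have hTsat : S.Sat T := fun b c hbc hb z hz => hb z (S.trans hbc hz)
  have hsupp : Supp m₀ (cp (ind T)) := fun z hz => by
    rw [cp_coeff, ind_coeff_not_mem]
    exact fun h => hz (h z (S.refl _))
  have hprod := supp_mul S hp hp2 ha hcop hm ⟨ind T, S.cls_ind hTsat⟩ ⟨ind T, S.cls_ind hTsat⟩ hsupp hsupp
  have hmul : ∀ b ∈ T, ∀ c ∈ T, b * c ∈ T := by
    intro b hb c hc z hz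
    by_contra hz0
    have h1 : 0 < (ind T * ind T).coeff (b * c) := mul_ind_pos.2 ⟨b, hb, c, hc, rfl⟩
    rw [S.conv (S.cls_ind hTsat) (S.cls_ind hTsat) _ _ hz, ← cp_coeff] at h1
    rw [show cp (ind T * ind T) = cp (((⟨ind T, S.cls_ind hTsat⟩ : S.ring) * ⟨ind T, S.cls_ind hTsat⟩ : S.ring) : DR m)
      from rfl, hprod z hz0] at h1
    exact lt_irrefl _ h1
  have h1T : (1 : DihedralGroup m) ∈ T := fun z hz => by
    rw [r.inj ((S.one hz).trans r_zero.symm), nsmul_zero]
  rcases S.prim T hTsat h1T hmul with hP | hP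
  · exact hd (hP d fun z hz => hcon z hz)
  · have h1 := hP (r 1) 1 (S.refl _)
    rw [nsmul_one, ZMod.natCast_eq_zero_iff] at h1
    have hle := Nat.le_of_dvd hm0 h1
    have h2 : 2 ≤ p ^ a := hp.two_le.trans (Nat.le_self_pow ha p)
    rw [hm] at hle
    nlinarith

end Cfsg.Agent.DihedralSchur
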