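import Cfsg.Agent.Lib.DihedralSchur.Pure

/-!
Multipliers permute the classes; the rational elements form a ring; rotations outside the subgroup of
order `p` are linked with their translates by elements of order `p`.
-/

set_option autoImplicit false
set_option linter.unusedSectionVars false

noncomputable section

namespace Cfsg.Agent.DihedralSchur

open DihedralGroup

variable {m : ℕ} [NeZero m]

theorem exists_prime_unit (u : (ZMod m)ˣ) (B : ℕ) :
    ∃ q : ℕ, B < q ∧ q.Prime ∧ q ≠ 2 ∧ (q : ZMod m) = u := by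
  obtain ⟨q, hq, hqp, hqu⟩ := Nat.forall_exists_prime_gt_and_eq_mod u.isUnit (B + 2)
  exact ⟨q, by omega, hqp, by omega, hqu⟩

theorem fr_unit {q : ℕ} {u : (ZMod m)ˣ} (hq : (q : ZMod m) = u) (X : CR m) (z : ZMod m) :
    (fr q X).coeff z = X.coeff (↑u⁻¹ * z) := by
  rw [fr, ofC_coeff, Finset.sum_eq_single (↑u⁻¹ * z)]
  · rw [if_pos]; rw [nsmul_eq_mul, hq, Units.mul_inv_cancel_left]
  · intro v _ hv
    refine if_neg fun e => hv ?_
    rw [← e, nsmul_eq_mul, hq, Units.inv_mul_cancel_left]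
  · simp

theorem frob_cp (S : Scheme m) (x : S.ring) {q : ℕ} (hq : q.Prime) (hq2 : q ≠ 2) :
    (q : CR m) ∣ cp ((x ^ q : S.ring) : DR m) - fr q (cp (x : DR m)) := by
  obtain ⟨h, hh⟩ := hq.odd_of_ne_two hq2
  have h1 := dvd_add (pow_parts S x (N := 1) hq ((pow_one q).trans hh)).1
    (frobenius_congr hq 1 (cp (x : DR m)))
  rwa [sub_add_sub_cancel, pow_one] at h1

theorem eq_of_dvd_sub_small {q : ℕ} {a b : ℤ} (h : (q : ℤ) ∣ a - b) (hq : a.natAbs + b.natAbs < q) :
    a = b := by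
  have := Int.eq_zero_of_dvd_of_natAbs_lt_natAbs h (by simp only [Int.natAbs_natCast]; omega)
  omega

namespace Scheme

variable (S : Scheme m)

theorem rel_unit (v : (ZMod m)ˣ) {z z' : ZMod m} (h : S.rel (r z) (r z')) :
    S.rel (r (↑v * z)) (r (↑v * z')) := by
  obtain ⟨q, -, hq, hq2, hqu⟩ := exists_prime_unit v⁻¹ 0
  set T := {b | S.rel (r (↑v * z)) b}
  set x : S.ring := ⟨ind T, S.cls_ind (S.sat_class _)⟩
  have h1 : ∀ w, (q : ℤ) ∣ ((x ^ q : S.ring) : DR m).coeff (r w) - (ind T).coeff (r (↑v * w)) := by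
    intro w
    have := natCast_dvdC.1 (frob_cp S x hq hq2) w
    rwa [AddMonoidAlgebra.coeff_sub, Finsupp.sub_apply, fr_unit hqu, inv_inv, cp_coeff, cp_coeff] at this
  have h2 := dvd_sub (h1 z') (h1 z)
  rw [(x ^ q).2 _ _ h, sub_sub_sub_cancel_left, ind_coeff_mem (T := T) (S.refl _)] at h2
  by_contra hc
  rw [ind_coeff_not_mem (T := T) hc, sub_zero] at h2
  have := Int.le_of_dvd one_pos h2
  have := hq.two_le
  omega

/-- Invariance of the rotation part under multipliers. -/
def IsRat (x : S.ring) : Prop :=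
  ∀ (u : (ZMod m)ˣ) (z : ZMod m), (x : DR m).coeff (r (↑u * z)) = (x : DR m).coeff (r z)

theorem isRat_pow (hm : 2 ≤ m) {x : S.ring} (hx : S.IsRat x) {q : ℕ} (hq : q.Prime) (hq2 : q ≠ 2)
    {u : (ZMod m)ˣ} (hqu : (q : ZMod m) = u) : (q : S.ring) ∣ x ^ q - x := by
  refine (S.natCast_dvd hm).2 ?_
  have h2 : fr q (cp (x : DR m)) = cp (x : DR m) := extC fun z => by
    rw [fr_unit hqu, cp_coeff, cp_coeff, hx]
  have h1 := frob_cp S x hq hq2
  rw [h2, ← map_sub, ← AddSubgroupClass.coe_sub] at h1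
  exact h1

theorem isRat_mul (hm : 2 ≤ m) {x y : S.ring} (hx : S.IsRat x) (hy : S.IsRat y) : S.IsRat (x * y) := by
  intro u z
  set c : ZMod m → ℤ := fun w => ((x * y : S.ring) : DR m).coeff (r w) with hc
  obtain ⟨q, hB, hq, hq2, hqu⟩ := exists_prime_unit u ((c (↑u * z)).natAbs + (c z).natAbs)
  have h1 : (q : S.ring) ∣ (x * y) ^ q - x * y := by
    rw [mul_pow, show x ^ q * y ^ q - x * y = (x ^ q - x) * y ^ q + x * (y ^ q - y) by ring]
    exact dvd_add ((S.isRat_pow hm hx hq hq2 hqu).mul_right _) ((S.isRat_pow hm hy hq hq2 hqu).mul_left _)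
  have h2 := (S.natCast_dvd hm).1 h1
  rw [AddSubgroupClass.coe_sub, map_sub] at h2
  have h3 := natCast_dvdC.1 (dvd_sub h2 (frob_cp S (x * y) hq hq2)) (↑u * z)
  rw [sub_sub_sub_cancel_left, AddMonoidAlgebra.coeff_sub, Finsupp.sub_apply, fr_unit hqu,
    Units.inv_mul_cancel_left, cp_coeff, cp_coeff] at h3
  simp only [hc] at hB
  exact (eq_of_dvd_sub_small h3 (by omega)).symm

theorem isRat_add {x y : S.ring} (hx : S.IsRat x) (hy : S.IsRat y) : S.IsRat (x + y) :=
  fun u z => by simp [hx u z, hy u z]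

theorem isRat_one : S.IsRat 1 := fun u z => by
  simp [MonoidAlgebra.one_def, Finsupp.single_apply, ← DihedralGroup.r_zero,
    eq_comm (a := (0 : ZMod m))]

/-- Two rotations in one orbit of classes. -/
def Linked (z z' : ZMod m) : Prop := ∃ u : (ZMod m)ˣ, S.rel (r (↑u * z)) (r z')

theorem linked_refl (z : ZMod m) : S.Linked z z := ⟨1, by rw [Units.val_one, one_mul]; exact S.refl _⟩

theorem linked_symm {z z' : ZMod m} : S.Linked z z' → S.Linked z' z := by
  rintro ⟨u, h⟩
  refine ⟨u⁻¹, ?_⟩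
  have := S.rel_unit u⁻¹ h
  rw [Units.inv_mul_cancel_left] at this
  exact S.symm this

theorem linked_trans {a b c : ZMod m} : S.Linked a b → S.Linked b c → S.Linked a c := by
  rintro ⟨u, h⟩ ⟨v, h'⟩
  refine ⟨v * u, ?_⟩
  rw [Units.val_mul, mul_assoc]
  exact S.trans (S.rel_unit v h) h'

theorem IsRat.eq_of_linked {S : Scheme m} {x : S.ring} (hx : S.IsRat x) {z z' : ZMod m}
    (h : S.Linked z z') : (x : DR m).coeff (r z) = (x : DR m).coeff (r z') := by
  obtain ⟨u, h⟩ := h
  rw [← hx u z, x.2 _ _ h]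

/-- The orbit of classes through a rotation. -/
def orb (z : ZMod m) : Set (DihedralGroup m) := {d | ∃ u : (ZMod m)ˣ, S.rel (r (↑u * z)) d}

theorem sat_orb (z : ZMod m) : S.Sat (S.orb z) := fun _ _ h ⟨u, hu⟩ => ⟨u, S.trans hu h⟩

theorem mem_orb {z z' : ZMod m} : r z' ∈ S.orb z ↔ S.Linked z z' := Iff.rfl

/-- The indicator of an orbit. -/
def orbInd (z : ZMod m) : S.ring := ⟨ind (S.orb z), S.cls_ind (S.sat_orb z)⟩

theorem isRat_orbInd (z : ZMod m) : S.IsRat (S.orbInd z) := by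
  intro u w
  have h : r ((u : ZMod m) * w) ∈ S.orb z ↔ r w ∈ S.orb z := by
    have hl : S.Linked w ((u : ZMod m) * w) := ⟨u, S.refl _⟩
    rw [mem_orb, mem_orb]
    exact ⟨fun h => S.linked_trans h (S.linked_symm hl), fun h => S.linked_trans h hl⟩
  by_cases hw : r w ∈ S.orb z
  · exact (ind_coeff_mem (h.2 hw)).trans (ind_coeff_mem hw).symm
  · exact (ind_coeff_not_mem (mt h.1 hw)).trans (ind_coeff_not_mem hw).symm

end Scheme

theorem exists_unit_mul_gcd (z : ZMod m) :
    ∃ u : (ZMod m)ˣ, z = ↑u * ((m / addOrderOf z : ℕ) : ZMod m) := by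
  have hm : m ≠ 0 := NeZero.ne m
  set a := z.val
  have hz : (a : ZMod m) = z := ZMod.natCast_rightInverse z
  set g := m.gcd a
  have hg : m / addOrderOf z = g := by
    rw [← hz, ZMod.addOrderOf_coe a hm]
    exact Nat.div_div_self (Nat.gcd_dvd_left m a) hm
  rw [hg]
  have hgpos : 0 < g := Nat.gcd_pos_of_pos_left _ (Nat.pos_of_ne_zero hm)
  have hd : m / g ∣ m := Nat.div_dvd_of_dvd (Nat.gcd_dvd_left m a)
  have hcop : (a / g).Coprime (m / g) := (Nat.coprime_div_gcd_div_gcd hgpos).symm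
  obtain ⟨u, hu⟩ := ZMod.unitsMap_surjective hd (ZMod.unitOfCoprime _ hcop)
  refine ⟨u, ?_⟩
  have hu' : ZMod.castHom hd (ZMod (m / g)) (u : ZMod m) = ((a / g : ℕ) : ZMod (m / g)) :=
    congrArg Units.val hu
  have hker : ZMod.castHom hd (ZMod (m / g)) ((u : ZMod m) - ((a / g : ℕ) : ZMod m)) = 0 := by
    rw [map_sub, hu', map_natCast, sub_self]
  obtain ⟨c, hc⟩ : ∃ c : ZMod m, (u : ZMod m) - ((a / g : ℕ) : ZMod m) = ((m / g : ℕ) : ZMod m) * c := by
    set d := (u : ZMod m) - ((a / g : ℕ) : ZMod m)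
    rw [← ZMod.natCast_rightInverse d, map_natCast, ZMod.natCast_eq_zero_iff] at hker
    obtain ⟨c, hc⟩ := hker
    exact ⟨c, by rw [← Nat.cast_mul, ← hc]; exact (ZMod.natCast_rightInverse d).symm⟩
  rw [eq_add_of_sub_eq hc, add_mul, mul_right_comm, ← Nat.cast_mul, ← Nat.cast_mul,
    Nat.div_mul_cancel (Nat.gcd_dvd_left m a), Nat.div_mul_cancel (Nat.gcd_dvd_right m a),
    ZMod.natCast_self, zero_mul, zero_add, hz]

theorem exists_unit_of_addOrderOf_eq {z z' : ZMod m} (h : addOrderOf z = addOrderOf z') :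
    ∃ u : (ZMod m)ˣ, ↑u * z = z' := by
  obtain ⟨u, hu⟩ := exists_unit_mul_gcd z
  obtain ⟨v, hv⟩ := exists_unit_mul_gcd z'
  refine ⟨v * u⁻¹, ?_⟩
  rw [hu, hv, h, Units.val_mul, mul_assoc, Units.inv_mul_cancel_left]

theorem Scheme.linked_of_addOrderOf_eq (S : Scheme m) {z z' : ZMod m}
    (h : addOrderOf z = addOrderOf z') : S.Linked z z' := by
  obtain ⟨u, hu⟩ := exists_unit_of_addOrderOf_eq h
  exact ⟨u, by rw [hu]; exact S.refl _⟩

theorem addOrderOf_eq_prime_mul {p a m₀ : ℕ} (hp : p.Prime) (hm : m = p ^ a * m₀) {z : ZMod m}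
    (hz : m₀ • z ≠ 0) : addOrderOf z = p * addOrderOf (p • z) := by
  have hdiv : p ∣ addOrderOf z := by
    by_contra hc
    have h1 : addOrderOf z ∣ p ^ a * m₀ := by
      rw [← hm]
      refine addOrderOf_dvd_of_nsmul_eq_zero ?_
      rw [nsmul_eq_mul, ZMod.natCast_self, zero_mul]
    exact hz (addOrderOf_dvd_iff_nsmul_eq_zero.1
      ((((hp.coprime_iff_not_dvd.2 hc).symm).pow_right a).dvd_of_dvd_mul_left h1))
  rw [addOrderOf_nsmul, Nat.gcd_eq_right hdiv, Nat.mul_div_cancel' hdiv]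

/-- Rotations outside the subgroup of order `p` are linked with their `p`-translates. -/
theorem Scheme.linked_add (S : Scheme m) {p a m₀ : ℕ} (hp : p.Prime) (ha : a ≠ 0) (hcop : ¬ p ∣ m₀)
    (hm : m = p ^ a * m₀) (hodd : p ≠ 2 ∨ m₀ = 1) {z k : ZMod m} (hk : p • k = 0) (hz : p • z ≠ 0) :
    S.Linked z (z + k) := by
  have : Fact p.Prime := ⟨hp⟩
  have hB : ∀ h k : ZMod m, p ≠ 2 → h ≠ 0 → m₀ • h = 0 → p • k = 0 → S.Linked h (h + k) := by
    intro h k hp2 hh hh0 hk
    by_cases hk0 : k = 0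
    · rw [hk0, add_zero]; exact S.linked_refl h
    have hordk : ∀ k' : ZMod m, k' ≠ 0 → p • k' = 0 → addOrderOf (h + k') = addOrderOf h * p := by
      intro k' h1 h2
      have hk'p : addOrderOf k' = p := addOrderOf_eq_prime h2 h1
      rw [(AddCommute.all h k').addOrderOf_add_eq_mul_addOrderOf_of_coprime ?_, hk'p]
      rw [hk'p]
      exact (hp.coprime_iff_not_dvd.2 fun hd =>
        hcop (hd.trans (addOrderOf_dvd_of_nsmul_eq_zero hh0))).symm
    set x := S.orbInd h
    set X : ZMod m → ℤ := fun w => (ind (S.orb h)).coeff (r w) with hXdef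
    have hxX : ∀ w w', addOrderOf w = addOrderOf w' → X w = X w' := fun w w' e =>
      (S.isRat_orbInd h).eq_of_linked (S.linked_of_addOrderOf_eq e)
    have hsum : ∀ w u₀ : ZMod m, p • u₀ = w → (p : ℤ) ∣ ((x ^ p : S.ring) : DR m).coeff (r w) -
        ∑ k' ∈ Finset.univ.filter (fun k' : ZMod m => p • k' = 0), X (u₀ + k') := by
      intro w u₀ hu₀
      have h1 := natCast_dvdC.1 (frob_cp S x hp hp2) w
      rw [AddMonoidAlgebra.coeff_sub, Finsupp.sub_apply, cp_coeff, fr, ofC_coeff,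
        ← Equiv.sum_comp (Equiv.addLeft u₀)] at h1
      rw [Finset.sum_filter]
      convert h1 using 2
      refine Finset.sum_congr rfl fun k' _ => ?_
      simp only [Equiv.coe_addLeft, nsmul_add, hu₀, add_eq_left]
      rfl
    have hcard : p ∣ (Finset.univ.filter fun k' : ZMod m => p • k' = 0).card := by
      have h1 : addOrderOf k ∣ Nat.card (nsmulAddMonoidHom (α := ZMod m) p).ker := by
        have hmem : k ∈ (nsmulAddMonoidHom (α := ZMod m) p).ker := hk
        rw [← AddSubgroup.addOrderOf_mk k hmem]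
        exact addOrderOf_dvd_natCard _
      rw [addOrderOf_eq_prime hk hk0, Nat.card_eq_fintype_card, Fintype.card_subtype] at h1
      simpa only [AddMonoidHom.mem_ker, nsmulAddMonoidHom_apply] using h1
    obtain ⟨u, hu⟩ : ∃ u : (ZMod m)ˣ, ↑u * h = p • h := by
      refine exists_unit_of_addOrderOf_eq ?_
      rw [addOrderOf_nsmul, Nat.Coprime.gcd_eq_one, Nat.div_one]
      exact (hp.coprime_iff_not_dvd.2 fun hd =>
        hcop (hd.trans (addOrderOf_dvd_of_nsmul_eq_zero hh0))).symm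
    have hph : (r (p • h) : DihedralGroup m) ≠ 1 := fun e => by
      have h1 : (↑u * h : ZMod m) = 0 := hu.trans (r.inj (e.trans r_zero.symm))
      exact hh (u.mul_right_eq_zero.1 h1)
    obtain ⟨z', hz', hz'0⟩ := not_pure S hp hp2 ha hcop hm hph
    -- the value at `z'` is divisible by `p`
    have hval' : (p : ℤ) ∣ ((x ^ p : S.ring) : DR m).coeff (r z') := by
      by_cases hex : ∃ u₀, p • u₀ = z'
      · obtain ⟨u₀, hu₀⟩ := hex
        have hne : ∀ k', p • k' = 0 → X (u₀ + k') = X u₀ := fun k' hk' => by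
          refine hxX _ _ ?_
          have h1 : ∀ w : ZMod m, p • w = z' → addOrderOf w = p * addOrderOf z' := fun w hw => by
            rw [addOrderOf_eq_prime_mul hp hm (fun e => hz'0 ?_), hw]
            rw [← hw, nsmul_left_comm, e, nsmul_zero]
          rw [h1 _ (by rw [nsmul_add, hk', add_zero, hu₀]), h1 _ hu₀]
        have h1 := hsum z' u₀ hu₀
        rw [Finset.sum_congr rfl (fun k' hk' => hne k' (Finset.mem_filter.1 hk').2), Finset.sum_const,
          nsmul_eq_mul] at h1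
        have h2 := dvd_add h1 ((Int.natCast_dvd_natCast.2 hcard).mul_right (X u₀))
        rwa [sub_add_cancel] at h2
      · push Not at hex
        have h1 := natCast_dvdC.1 (frob_cp S x hp hp2) z'
        rw [AddMonoidAlgebra.coeff_sub, Finsupp.sub_apply, cp_coeff, fr, ofC_coeff,
          Finset.sum_eq_zero (fun u _ => if_neg (hex u)), sub_zero] at h1
        exact h1
    rw [← (x ^ p).2 _ _ hz'] at hval'
    have hXh : X h = 1 := ind_coeff_mem ((S.mem_orb).2 (S.linked_refl h))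
    have hsum1 : ∑ k' ∈ Finset.univ.filter (fun k' : ZMod m => p • k' = 0), X (h + k') =
        ((Finset.univ.filter fun k' : ZMod m => p • k' = 0).card : ℤ) * X (h + k) + (1 - X (h + k)) := by
      have h0 : (0 : ZMod m) ∈ Finset.univ.filter (fun k' : ZMod m => p • k' = 0) := by simp
      rw [← Finset.add_sum_erase _ _ h0, add_zero, hXh,
        Finset.sum_congr rfl (fun k' hk' => hxX (h + k') (h + k) (by
          rw [hordk k' (Finset.ne_of_mem_erase hk') (Finset.mem_filter.1 (Finset.mem_of_mem_erase hk')).2,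
            hordk k hk0 hk])),
        Finset.sum_const, nsmul_eq_mul, Finset.card_erase_of_mem h0,
        Nat.cast_sub (Finset.card_pos.2 ⟨_, h0⟩)]
      push_cast
      ring
    have h1 := dvd_sub hval' (hsum (p • h) h rfl)
    rw [sub_sub_cancel, hsum1] at h1
    have h2 := dvd_sub h1 ((Int.natCast_dvd_natCast.2 hcard).mul_right (X (h + k)))
    rw [add_sub_cancel_left] at h2
    by_contra hc
    have hX0 : X (h + k) = 0 := ind_coeff_not_mem hc
    rw [hX0, sub_zero] at h2
    have := Int.le_of_dvd one_pos h2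
    have := hp.two_le
    omega
  by_cases hcase : (p * m₀) • z = 0
  · rcases hodd with hp2 | h1
    · obtain ⟨A, B, hAB⟩ := Nat.Coprime.isCoprime (hp.coprime_iff_not_dvd.2 hcop)
      set h := (A * p) • z with hh
      set k₁ := (B * m₀) • z with hk₁
      have hsplit : z = h + k₁ := by rw [hh, hk₁, ← add_zsmul, hAB, one_zsmul]
      have hk₁0 : p • k₁ = 0 := by
        rw [hk₁, ← natCast_zsmul, ← mul_zsmul, show (p : ℤ) * (B * m₀) = B * ((p * m₀ : ℕ) : ℤ) by
          push_cast; ring, mul_zsmul, natCast_zsmul, hcase, zsmul_zero]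
      have hh0 : m₀ • h = 0 := by
        rw [hh, ← natCast_zsmul, ← mul_zsmul, show (m₀ : ℤ) * (A * p) = A * ((p * m₀ : ℕ) : ℤ) by
          push_cast; ring, mul_zsmul, natCast_zsmul, hcase, zsmul_zero]
      have hhne : h ≠ 0 := fun e => hz (by rw [hsplit, e, zero_add, hk₁0])
      have h1 := hB h k₁ hp2 hhne hh0 hk₁0
      have h2 := hB h (k₁ + k) hp2 hhne hh0 (by rw [nsmul_add, hk₁0, hk, add_zero])
      rw [← hsplit] at h1
      rw [← add_assoc, ← hsplit] at h2
      exact S.linked_trans (S.linked_symm h1) h2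
    · subst h1
      rw [mul_one] at hcase
      exact absurd hcase hz
  · refine S.linked_of_addOrderOf_eq ?_
    have hne : ∀ w : ZMod m, p • w = p • z → m₀ • w ≠ 0 := fun w hw e => hcase (by
      rw [mul_comm, mul_nsmul', ← hw, nsmul_left_comm, e, nsmul_zero])
    rw [addOrderOf_eq_prime_mul hp hm (hne z rfl),
      addOrderOf_eq_prime_mul hp hm (hne (z + k) (by rw [nsmul_add, hk, add_zero])), nsmul_add, hk,
      add_zero]

end Cfsg.Agent.DihedralSchur
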