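import Cfsg.Agent.Lib.DihedralSchur.GroupRing

/-!
Primitive Schur rings over dihedral groups: every nontrivial class is symmetric and meets both cosets
of the rotation subgroup, so the ring is commutative and determined by rotation parts.
-/

set_option autoImplicit false
set_option linter.unusedSectionVars false

noncomputable section

namespace Cfsg.Agent.DihedralSchur

open DihedralGroup

variable {m : ℕ} [NeZero m]

/-- A function constant on the classes. -/
def Cls (rel : DihedralGroup m → DihedralGroup m → Prop) (x : DR m) : Prop :=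
  ∀ a b, rel a b → x.coeff a = x.coeff b

/-- A primitive Schur partition of the dihedral group. -/
structure Scheme (m : ℕ) [NeZero m] where
  rel : DihedralGroup m → DihedralGroup m → Prop
  refl : ∀ a, rel a a
  symm : ∀ {a b}, rel a b → rel b a
  trans : ∀ {a b c}, rel a b → rel b c → rel a c
  one : ∀ {a}, rel 1 a → a = 1
  inv : ∀ {a b}, rel a b → rel a⁻¹ b⁻¹
  conv : ∀ {x y}, Cls rel x → Cls rel y → Cls rel (x * y)
  prim : ∀ T : Set (DihedralGroup m), (∀ a b, rel a b → a ∈ T → b ∈ T) → 1 ∈ T →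
    (∀ a ∈ T, ∀ b ∈ T, a * b ∈ T) → (∀ a ∈ T, a = 1) ∨ ∀ a, a ∈ T

/-- The indicator of a set. -/
def ind (T : Set (DihedralGroup m)) : DR m := ofD (Set.indicator T fun _ => 1)

theorem ind_coeff_mem {T : Set (DihedralGroup m)} {a : DihedralGroup m} (h : a ∈ T) :
    (ind T).coeff a = 1 := by simp [ind, h]

theorem ind_coeff_not_mem {T : Set (DihedralGroup m)} {a : DihedralGroup m} (h : a ∉ T) :
    (ind T).coeff a = 0 := by simp [ind, h]

theorem ind_coeff_nonneg (T : Set (DihedralGroup m)) (a : DihedralGroup m) :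
    0 ≤ (ind T).coeff a := by
  by_cases h : a ∈ T
  · rw [ind_coeff_mem h]; norm_num
  · rw [ind_coeff_not_mem h]

theorem mul_ind_pos {T U : Set (DihedralGroup m)} {a : DihedralGroup m} :
    0 < (ind T * ind U).coeff a ↔ ∃ d ∈ T, ∃ e ∈ U, d * e = a := by
  rw [mulD_coeff]
  constructor
  · intro h
    obtain ⟨d, -, hd⟩ := Finset.exists_ne_zero_of_sum_ne_zero h.ne'
    refine ⟨d, ?_, d⁻¹ * a, ?_, mul_inv_cancel_left d a⟩
    · by_contra hc; rw [ind_coeff_not_mem hc, zero_mul] at hd; exact hd rfl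
    · by_contra hc; rw [ind_coeff_not_mem hc, mul_zero] at hd; exact hd rfl
  · rintro ⟨d, hd, e, he, rfl⟩
    refine Finset.sum_pos' (fun c _ => mul_nonneg (ind_coeff_nonneg _ _) (ind_coeff_nonneg _ _))
      ⟨d, Finset.mem_univ _, ?_⟩
    rw [inv_mul_cancel_left, ind_coeff_mem hd, ind_coeff_mem he]
    norm_num

namespace Scheme

variable (S : Scheme m)

/-- A union of classes. -/
def Sat (T : Set (DihedralGroup m)) : Prop := ∀ a b, S.rel a b → a ∈ T → b ∈ T

theorem sat_class (a : DihedralGroup m) : S.Sat {b | S.rel a b} := fun _ _ h h' => S.trans h' h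

theorem cls_ind {T : Set (DihedralGroup m)} (hT : S.Sat T) : Cls S.rel (ind T) := by
  intro a b h
  by_cases ha : a ∈ T
  · rw [ind_coeff_mem ha, ind_coeff_mem (hT a b h ha)]
  · rw [ind_coeff_not_mem ha, ind_coeff_not_mem fun hb => ha (hT b a (S.symm h) hb)]

theorem sat_ne_zero {x : DR m} (hx : Cls S.rel x) (P : ℤ → Prop) : S.Sat {a | P (x.coeff a)} :=
  fun a b h ha => by simpa [← hx a b h] using ha

theorem prod_class {a c b : DihedralGroup m} (h : S.rel (a * c) b) :
    ∃ d e, S.rel a d ∧ S.rel c e ∧ d * e = b := by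
  have hpos : 0 < (ind {d | S.rel a d} * ind {e | S.rel c e}).coeff (a * c) :=
    mul_ind_pos.2 ⟨a, S.refl a, c, S.refl c, rfl⟩
  rw [S.conv (S.cls_ind (S.sat_class a)) (S.cls_ind (S.sat_class c)) _ _ h] at hpos
  obtain ⟨d, hd, e, he, hde⟩ := mul_ind_pos.1 hpos
  exact ⟨d, e, hd, he, hde⟩

theorem sub_rot {T : Set (DihedralGroup m)} (hT : S.Sat T) (h : ∀ a ∈ T, ∃ z, a = r z) :
    ∀ a ∈ T, a = 1 := by
  let M := Submonoid.closure T
  let P : Set (DihedralGroup m) := {a | ∀ b, S.rel a b → b ∈ M}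
  have h1 : 1 ∈ P := fun b hb => S.one hb ▸ M.one_mem
  have hmul : ∀ a ∈ P, ∀ c ∈ P, a * c ∈ P := by
    intro a ha c hc b hb
    obtain ⟨d, e, hd, he, rfl⟩ := S.prod_class hb
    exact M.mul_mem (ha d hd) (hc e he)
  have hTP : T ⊆ P := fun a ha b hb => Submonoid.subset_closure (hT a b hb ha)
  have hMr : ∀ a ∈ M, ∃ z, a = r z := by
    intro a ha
    induction ha using Submonoid.closure_induction with
    | mem a ha => exact h a ha
    | one => exact ⟨0, rfl⟩
    | mul a b _ _ ha hb =>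
      obtain ⟨z, rfl⟩ := ha
      obtain ⟨w, rfl⟩ := hb
      exact ⟨z + w, rfl⟩
  rcases S.prim P (fun a b hab ha c hc => ha c (S.trans hab hc)) h1 hmul with hP | hP
  · exact fun a ha => hP a (hTP ha)
  · obtain ⟨z, hz⟩ := hMr _ (hP (sr 0) (sr 0) (S.refl _))
    cases hz

theorem rel_inv_self (a : DihedralGroup m) : S.rel a a⁻¹ := by
  by_contra hne
  have hQ := S.sub_rot (T := {b | S.rel a b ∧ ¬ S.rel a⁻¹ b})
    (fun b c hbc hb => ⟨S.trans hb.1 hbc, fun h => hb.2 (S.trans h (S.symm hbc))⟩)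
    (by
      rintro (z | z) ⟨h1, h2⟩
      · exact ⟨z, rfl⟩
      · exact absurd (by simpa using S.inv h1) h2)
  have ha : a = 1 := hQ a ⟨S.refl a, fun h => hne (S.symm h)⟩
  exact hne (by rw [ha, inv_one]; exact S.refl 1)

theorem cls_inv {x : DR m} (hx : Cls S.rel x) (a : DihedralGroup m) : x.coeff a⁻¹ = x.coeff a :=
  (hx _ _ (S.rel_inv_self a)).symm

/-- The Schur ring. -/
def ring : Subring (DR m) where
  carrier := {x | Cls S.rel x}
  mul_mem' := S.conv
  add_mem' ha hb a b h := by simp [ha a b h, hb a b h]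
  zero_mem' a b _ := by simp
  neg_mem' ha a b h := by simp [ha a b h]
  one_mem' a b h := by
    simp only [MonoidAlgebra.one_def, MonoidAlgebra.coeff_single, Finsupp.single_apply]
    have : (1 : DihedralGroup m) = a ↔ 1 = b :=
      ⟨fun e => (S.one (e ▸ h)).symm, fun e => (S.one (e ▸ S.symm h)).symm⟩
    simp only [this]

theorem mem_ring {x : DR m} : x ∈ S.ring ↔ Cls S.rel x := Iff.rfl

theorem comm {x y : DR m} (hx : Cls S.rel x) (hy : Cls S.rel y) : x * y = y * x := extD fun g => by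
  rw [← S.cls_inv (S.conv hx hy) g, mulD_coeff, mulD_coeff]
  conv_rhs => rw [← Equiv.sum_comp (Equiv.mulLeft g)]
  refine Fintype.sum_congr _ _ fun d => ?_
  rw [Equiv.coe_mulLeft, show (g * d)⁻¹ * g = d⁻¹ by group, S.cls_inv hx d,
    show d⁻¹ * g⁻¹ = (g * d)⁻¹ by group, S.cls_inv hy]
  ring

instance : CommRing S.ring :=
  { S.ring.toRing with mul_comm := fun a b => Subtype.ext (S.comm a.2 b.2) }

theorem star'_cp {x : DR m} (hx : Cls S.rel x) : star' (cp x) = cp x := extC fun z => by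
  rw [star'_coeff, cp_coeff, cp_coeff, ← S.cls_inv hx (r z), inv_r]

theorem exists_r (hm : 2 ≤ m) {a : DihedralGroup m} (ha : a ≠ 1) : ∃ z, z ≠ 0 ∧ S.rel a (r z) := by
  by_contra hcon
  push Not at hcon
  have hsr : ∀ b, S.rel a b → ∃ z, b = sr z := by
    rintro (z | z) hb
    · refine absurd hb (hcon z fun hz => ha (S.one ?_))
      subst hz
      exact S.symm hb
    · exact ⟨z, rfl⟩
  set T := {b | S.rel a b}
  have hsq : ∀ b ∈ T, ∀ c ∈ T, b * c = 1 := by
    intro b hb c hc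
    refine S.sub_rot (T := {d | 0 < (ind T * ind T).coeff d})
      (S.sat_ne_zero (S.conv (S.cls_ind (S.sat_class a)) (S.cls_ind (S.sat_class a))) fun v => 0 < v)
      (fun d hd => ?_) _ (mul_ind_pos.2 ⟨b, hb, c, hc, rfl⟩)
    obtain ⟨d₁, hd₁, d₂, hd₂, rfl⟩ := mul_ind_pos.1 hd
    obtain ⟨z₁, rfl⟩ := hsr d₁ hd₁
    obtain ⟨z₂, rfl⟩ := hsr d₂ hd₂
    exact ⟨z₂ - z₁, rfl⟩
  obtain ⟨z₀, rfl⟩ := hsr a (S.refl a)
  have huniq : ∀ b, S.rel (sr z₀) b → b = sr z₀ := fun b hb =>
    (inv_eq_of_mul_eq_one_right (hsq (sr z₀) (S.refl _) b hb)).symm.trans (inv_sr z₀)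
  rcases S.prim {1, sr z₀}
    (by
      rintro b c hbc (rfl | rfl)
      · exact Or.inl (S.one hbc)
      · exact Or.inr (huniq c hbc))
    (Or.inl rfl)
    (by rintro b (rfl | rfl) c (rfl | rfl) <;> simp) with hP | hP
  · exact ha (hP _ (Or.inr rfl))
  · have : Fact (1 < m) := ⟨hm⟩
    rcases hP (r 1) with h | h
    · exact one_ne_zero (r.inj (h.trans r_zero.symm))
    · cases h

theorem exists_sr {a : DihedralGroup m} (ha : a ≠ 1) : ∃ z, S.rel a (sr z) := by
  by_contra hcon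
  push Not at hcon
  refine ha (S.sub_rot (S.sat_class a) ?_ a (S.refl a))
  rintro (z | z) hb
  · exact ⟨z, rfl⟩
  · exact absurd hb (hcon z)

theorem coeff_r_of_cls (hm : 2 ≤ m) (a : DihedralGroup m) : ∃ z, S.rel a (r z) := by
  by_cases ha : a = 1
  · exact ⟨0, by rw [ha, r_zero]; exact S.refl 1⟩
  · obtain ⟨z, -, hz⟩ := S.exists_r hm ha
    exact ⟨z, hz⟩

/-- Congruence in the ring is congruence of rotation parts. -/
theorem natCast_dvd (hm : 2 ≤ m) {n : ℕ} {x : S.ring} :
    (n : S.ring) ∣ x ↔ (n : CR m) ∣ cp (x : DR m) := by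
  constructor
  · rintro ⟨c, rfl⟩
    rw [Subring.coe_mul, Subring.coe_natCast, cp_natCast_mul]
    exact dvd_mul_right _ _
  · intro h
    have hall : ∀ a, (n : ℤ) ∣ (x : DR m).coeff a := fun a => by
      obtain ⟨z, hz⟩ := S.coeff_r_of_cls hm a
      rw [x.2 a (r z) hz, ← cp_coeff]
      exact natCast_dvdC.1 h z
    refine ⟨⟨ofD fun a => (x : DR m).coeff a / n, fun a b hab => ?_⟩, Subtype.ext (extD fun a => ?_)⟩
    · rw [ofD_coeff, ofD_coeff, x.2 a b hab]
    · rw [Subring.coe_mul, Subring.coe_natCast, ← nsmul_eq_mul, MonoidAlgebra.coeff_smul_apply,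
        nsmul_eq_mul, ofD_coeff, Int.mul_ediv_cancel' (hall a)]

end Scheme

end Cfsg.Agent.DihedralSchur
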