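import Cfsg.Agent.Lib.DihedralSchur.Final

/-!
Orbits of a point stabilizer in a primitive group with a regular dihedral subgroup form a primitive
Schur partition; hence the group is 2-transitive.
-/

set_option autoImplicit false

namespace Cfsg.Agent.DihedralSchur

open MulAction

universe u v

variable {G : Type u} {Ω : Type v} [Group G] [MulAction G Ω]

theorem two_pretransitive [Finite G] (hprim : IsPreprimitive G Ω) (D : Subgroup G) (m : ℕ)
    [NeZero m] (e : ↥D ≃* DihedralGroup m) (htr : IsPretransitive ↥D Ω)
    (hfree : ∀ a : Ω, stabilizer ↥D a = ⊥) : IsMultiplyPretransitive G Ω 2 := by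
  classical
  haveI := hprim
  rw [is_two_pretransitive_iff]
  intro a b c d hab hcd
  haveI : Nontrivial Ω := ⟨⟨a, b, hab⟩⟩
  set ι : DihedralGroup m →* G := D.subtype.comp e.symm.toMonoidHom with hι
  have hφ : Function.Bijective fun x : DihedralGroup m => ι x • a := by
    constructor
    · intro x y hxy
      have h1 : (e.symm y)⁻¹ * e.symm x ∈ stabilizer ↥D a := by
        rw [mem_stabilizer_iff, mul_smul, inv_smul_eq_iff]
        exact hxy
      rw [hfree, Subgroup.mem_bot, inv_mul_eq_one] at h1
      exact (e.symm.injective h1).symm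
    · intro w
      obtain ⟨g, hg⟩ := exists_smul_eq ↥D a w
      exact ⟨e g, by show ((e.symm (e g) : ↥D) : G) • a = w; rw [e.symm_apply_apply]; exact hg⟩
  let φ : DihedralGroup m ≃ Ω := Equiv.ofBijective _ hφ
  have hφapp : ∀ x, φ x = ι x • a := fun _ => rfl
  let rel : DihedralGroup m → DihedralGroup m → Prop := fun x y => ∃ h ∈ stabilizer G a, h • φ x = φ y
  have hsymm : ∀ {x y}, rel x y → rel y x := fun {x y} ⟨h, hh, hxy⟩ =>
    ⟨h⁻¹, inv_mem hh, by rw [← hxy, inv_smul_smul]⟩
  have hshift : ∀ {h : G}, h ∈ stabilizer G a → ∀ x x', h • φ x = φ x' →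
      (ι x')⁻¹ * h * ι x ∈ stabilizer G a := fun {h} hh x x' hxx => by
    rw [mem_stabilizer_iff, mul_smul, mul_smul, inv_smul_eq_iff]
    exact hxx
  let S : Scheme m :=
    { rel := rel
      refl := fun x => ⟨1, one_mem _, one_smul _ _⟩
      symm := hsymm
      trans := fun {x y z} ⟨h, hh, hxy⟩ ⟨k, hk, hyz⟩ =>
        ⟨k * h, mul_mem hk hh, by rw [mul_smul, hxy, hyz]⟩
      one := fun {x} ⟨h, hh, hx⟩ => φ.injective (by
        rw [← hx, hφapp, map_one, one_smul, mem_stabilizer_iff.1 hh])
      inv := fun {x y} ⟨h, hh, hxy⟩ => ⟨(ι y)⁻¹ * h * ι x, hshift hh x y hxy, by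
        rw [hφapp, hφapp, map_inv, map_inv, mul_smul, mul_smul, smul_inv_smul,
          mem_stabilizer_iff.1 hh]⟩
      conv := fun {x y} hx hy p q hpq => by
        obtain ⟨h, hh, hpq'⟩ := hpq
        let σ : DihedralGroup m ≃ DihedralGroup m := φ.trans ((MulAction.toPerm h).trans φ.symm)
        have hσ : ∀ d, φ (σ d) = h • φ d := fun d => φ.apply_symm_apply _
        rw [mulD_coeff, mulD_coeff, ← σ.sum_comp fun d => x.coeff d * y.coeff (d⁻¹ * q)]
        refine Finset.sum_congr rfl fun d _ => ?_
        rw [← hx d (σ d) ⟨h, hh, (hσ d).symm⟩,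
          ← hy (d⁻¹ * p) ((σ d)⁻¹ * q) ⟨(ι (σ d))⁻¹ * h * ι d, hshift hh d _ (hσ d).symm, ?_⟩]
        rw [hφapp, hφapp, map_mul, map_mul, map_inv, map_inv, mul_smul, mul_smul, mul_smul, mul_smul,
          smul_inv_smul]
        congr 1
      prim := by
        intro T hT h1 hmul
        let M : Submonoid G :=
          { carrier := {g | φ.symm (g • a) ∈ T}
            one_mem' := by
              show φ.symm ((1 : G) • a) ∈ T
              rwa [one_smul, show φ.symm a = 1 from φ.symm_apply_eq.2 (by rw [hφapp, map_one, one_smul])]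
            mul_mem' := fun {g k} hg hk => by
              show φ.symm ((g * k) • a) ∈ T
              set x := φ.symm (g • a) with hx
              set y := φ.symm (k • a) with hy
              have hh : (ι x)⁻¹ * g ∈ stabilizer G a := by
                rw [mem_stabilizer_iff, mul_smul, inv_smul_eq_iff, ← hφapp, hx, φ.apply_symm_apply]
              set z := φ.symm (((ι x)⁻¹ * g) • φ y) with hz
              have hzT : z ∈ T := hT y z ⟨_, hh, (φ.apply_symm_apply _).symm⟩ hk
              have : (g * k) • a = φ (x * z) := by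
                rw [hφapp, map_mul, mul_smul, mul_smul, ← hφapp z, hz, φ.apply_symm_apply, hy,
                  φ.apply_symm_apply, mul_smul, smul_inv_smul]
              rw [this, φ.symm_apply_apply]
              exact hmul x hg z hzT }
        let P : Subgroup G :=
          { M with
            inv_mem' := fun {g} hg => by
              show g⁻¹ ∈ M
              rw [inv_eq_of_mul_eq_one_right (b := g ^ (orderOf g - 1))
                (by rw [← pow_succ', Nat.sub_add_cancel (orderOf_pos g), pow_orderOf_eq_one])]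
              exact M.pow_mem hg _ }
        have hle : stabilizer G a ≤ P := fun h hh => by
          show φ.symm (h • a) ∈ T
          rw [mem_stabilizer_iff.1 hh]
          have := M.one_mem
          change φ.symm ((1 : G) • a) ∈ T at this
          rwa [one_smul] at this
        have hPi : ∀ x, ι x ∈ P ↔ x ∈ T := fun x => by
          show φ.symm (ι x • a) ∈ T ↔ _
          rw [← hφapp, φ.symm_apply_apply]
        rcases eq_or_lt_of_le hle with heq | hlt
        · refine Or.inl fun x hx => φ.injective ?_
          have h2 : ι x ∈ stabilizer G a := heq ▸ (hPi x).2 hx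
          rw [hφapp, hφapp, mem_stabilizer_iff.1 h2, map_one, one_smul]
        · have htop := ((isCoatom_stabilizer_iff_preprimitive G a).2 hprim).2 P hlt
          exact Or.inr fun x => (hPi x).1 (htop ▸ Subgroup.mem_top _) }
  have hone : ∀ x y : Ω, x ≠ a → y ≠ a → ∃ h ∈ stabilizer G a, h • x = y := by
    intro x y hx hy
    have hne : ∀ w : Ω, w ≠ a → φ.symm w ≠ 1 := fun w hw h => hw (by
      rw [← φ.apply_symm_apply w, h, hφapp, map_one, one_smul])
    by_cases hm : 2 ≤ m
    · obtain ⟨h, hh, hxy⟩ := S.single_class hm (hne x hx) (hne y hy)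
      exact ⟨h, hh, by rwa [φ.apply_symm_apply, φ.apply_symm_apply] at hxy⟩
    · have hm1 : m = 1 := by have := NeZero.ne m; omega
      subst hm1
      have : ∀ z : DihedralGroup 1, z ≠ 1 → z = DihedralGroup.sr 0 := by decide
      refine ⟨1, one_mem _, ?_⟩
      rw [one_smul]
      exact φ.symm.injective ((this _ (hne x hx)).trans (this _ (hne y hy)).symm)
  obtain ⟨g, hg⟩ := exists_smul_eq G c a
  obtain ⟨h, hh, hbd⟩ := hone b (g • d) (Ne.symm hab) (fun e => hcd (smul_left_cancel g (hg.trans e.symm)))
  exact ⟨g⁻¹ * h, by rw [mul_smul, mem_stabilizer_iff.1 hh, inv_smul_eq_iff, hg],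
    by rw [mul_smul, hbd, inv_smul_smul]⟩

end Cfsg.Agent.DihedralSchur
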